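import Mathlib
import Groth.Agent.H19Grp.DominantToAffine
import Groth.Agent.H19Grp.DominantHom
import Groth.Agent.H19Grp.FibreLoci
import Groth.Agent.H19Grp.NeutralOpen
import Groth.Agent.H19Grp.GroupCI
import Groth.Agent.H20FF.SubHopf
import Groth.Agent.H17.Reduced
import Groth.Agent.H17.Image
import Groth.Agent.H06Red.Scheme
import Groth.Agent.H18Descent.Basic
import Groth.Agent.S0593

/-!
Quasi-compact monomorphisms of group schemes over a field into affine groups are closed immersions.
-/

set_option autoImplicit false
set_option linter.style.haveILetI false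
set_option linter.unusedSectionVars false
set_option backward.isDefEq.respectTransparency false

universe u

open CategoryTheory CategoryTheory.Limits MonoidalCategory CartesianMonoidalCategory MonObj GrpObj
  AlgebraicGeometry TopologicalSpace Opposite

namespace Groth.Agent.H06GenSub.MonoAffine

variable {k : Type u} [Field k]

/-- A homomorphism factoring through a monomorphism into a group is a homomorphism. -/
theorem isMonHom_of_comp_mono {C : Type*} [Category C] [CartesianMonoidalCategory C] {A B X : C}
    [GrpObj A] [GrpObj B] [GrpObj X] (g : A ⟶ B) (j : B ⟶ X) [IsMonHom j] [Mono j] [IsMonHom (g ≫ j)] :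
    IsMonHom g where
  one_hom := by rw [← cancel_mono j, Category.assoc, IsMonHom.one_hom (g ≫ j), IsMonHom.one_hom j]
  mul_hom := by
    rw [← cancel_mono j, Category.assoc, IsMonHom.mul_hom (g ≫ j), Category.assoc, IsMonHom.mul_hom j,
      MonoidalCategory.tensorHom_comp_tensorHom_assoc]

/-- A reduced closed subscheme stable under the operations is a subgroup, over a perfect field. -/
theorem exists_grpObj_of_reduced [PerfectField k] {H Z : Over (Spec (CommRingCat.of k))} [GrpObj H]
    (j : Z ⟶ H) [IsClosedImmersion j.left] [IsReduced Z.left]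
    (h1 : Set.range η[H].left ⊆ Set.range j.left)
    (h2 : Set.range ((j ⊗ₘ j) ≫ μ[H]).left ⊆ Set.range j.left)
    (h3 : Set.range (j ≫ ι[H]).left ⊆ Set.range j.left) : ∃ _ : GrpObj Z, IsMonHom j := by
  haveI : Mono j := Over.mono_of_mono_left _
  haveI : GeometricallyReduced Z.hom := H06Red.geometricallyReduced_of_perfectField Z.hom
  haveI : IsReduced (Z ⊗ Z).left := H06Red.isReduced_pullback Z.hom Z.hom
  haveI : IsReduced (𝟙_ (Over (Spec (CommRingCat.of k)))).left :=
    inferInstanceAs (IsReduced (Spec (CommRingCat.of k)))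
  have hl : ∀ {T : Over (Spec (CommRingCat.of k))} (f : T ⟶ H), IsReduced T.left →
      Set.range f.left ⊆ Set.range j.left → ∃ g : T ⟶ Z, g ≫ j = f := by
    intro T f _ hf
    obtain ⟨g, hg⟩ := H17.exists_lift_of_range_subset f.left j.left hf
    exact ⟨Over.homMk g (by rw [← Over.w j, ← Category.assoc, hg, Over.w f]), Over.OverMorphism.ext hg⟩
  obtain ⟨e₀, he₀⟩ := hl η[H] inferInstance h1
  obtain ⟨m₀, hm₀⟩ := hl _ inferInstance h2
  obtain ⟨i₀, hi₀⟩ := hl _ inferInstance h3
  exact H19Grp.exists_grpObj_of_mono H j e₀ he₀ m₀ hm₀ i₀ hi₀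

/-- Base change along an open map preserves density of the image. -/
theorem denseRange_of_isPullback {P A B C : Scheme.{u}} {p : P ⟶ A} {r : P ⟶ B} {f : A ⟶ C} {q : B ⟶ C}
    (h : IsPullback p r f q) (hq : IsOpenMap q) (hf : DenseRange f) : DenseRange r := by
  have hr : Set.range r = q ⁻¹' Set.range f := by
    rw [← h.isoPullback_hom_snd, Scheme.Hom.comp_base, TopCat.coe_comp, Set.range_comp,
      h.isoPullback.hom.surjective.range_eq, Set.image_univ, Scheme.Pullback.range_snd]
  show Dense (Set.range r)
  rw [hr]
  exact Dense.preimage hf hq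

/-- The product of two morphisms with dense image has dense image, over a field. -/
theorem denseRange_tensorHom {A B X Y : Over (Spec (CommRingCat.of k))} (f : A ⟶ X) (g : B ⟶ Y)
    (hf : DenseRange f.left) (hg : DenseRange g.left) : DenseRange (f ⊗ₘ g).left := by
  have sq1 : IsPullback (fst A B) (f ▷ B) f (fst X B) :=
    ⟨⟨by simp⟩, ⟨PullbackCone.IsLimit.mk _ (fun s => lift s.fst (s.snd ≫ snd X B))
      (fun s => by simp)
      (fun s => by
        refine CartesianMonoidalCategory.hom_ext _ _ ?_ ?_
        · simpa using s.condition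
        · simp)
      (fun s m h1 h2 => by
        refine CartesianMonoidalCategory.hom_ext _ _ ?_ ?_
        · rw [lift_fst, ← h1]
        · rw [lift_snd, ← h2]; simp)⟩⟩
  have sq2 : IsPullback (snd X B) (X ◁ g) g (snd X Y) :=
    ⟨⟨by simp⟩, ⟨PullbackCone.IsLimit.mk _ (fun s => lift (s.snd ≫ fst X Y) s.fst)
      (fun s => by simp)
      (fun s => by
        refine CartesianMonoidalCategory.hom_ext _ _ ?_ ?_
        · simp
        · simpa using s.condition)
      (fun s m h1 h2 => by
        refine CartesianMonoidalCategory.hom_ext _ _ ?_ ?_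
        · rw [lift_fst, ← h2]; simp
        · rw [lift_snd, ← h1])⟩⟩
  have o1 : IsOpenMap (fst X B).left := by
    haveI : UniversallyOpen (fst X B).left := inferInstanceAs (UniversallyOpen (pullback.fst X.hom B.hom))
    exact (fst X B).left.isOpenMap
  have o2 : IsOpenMap (snd X Y).left := by
    haveI : UniversallyOpen (snd X Y).left := inferInstanceAs (UniversallyOpen (pullback.snd X.hom Y.hom))
    exact (snd X Y).left.isOpenMap
  have d1 := denseRange_of_isPullback (sq1.map (Over.forget _)) o1 hf
  have d2 := denseRange_of_isPullback (sq2.map (Over.forget _)) o2 hg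
  rw [MonoidalCategory.tensorHom_def, Over.comp_left, Scheme.Hom.comp_base, TopCat.coe_comp]
  exact d2.comp d1 (X ◁ g).left.continuous

/-- A quasi-compact monomorphism into an affine group over a perfect field has affine source. -/
theorem isAffine_source [PerfectField k] {G H : Over (Spec (CommRingCat.of k))} [GrpObj G] [GrpObj H]
    [IsAffine H.left] (u : G ⟶ H) [IsMonHom u] [Mono u] [QuasiCompact u.left] : IsAffine G.left := by
  let R : Over (Spec (CommRingCat.of k)) := Over.mk (G.left.nilradical.subschemeι ≫ G.hom)
  let i : R ⟶ G := Over.homMk G.left.nilradical.subschemeι rfl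
  haveI : IsClosedImmersion i.left := inferInstanceAs (IsClosedImmersion G.left.nilradical.subschemeι)
  haveI : IsReduced R.left := inferInstanceAs (IsReduced G.left.nilradical.subscheme)
  haveI : Mono i := Over.mono_of_mono_left _
  haveI : Surjective i.left := ⟨fun x => by
    have h : Set.range G.left.nilradical.subschemeι = Set.univ := by
      rw [Scheme.IdealSheafData.range_subschemeι]; rfl
    exact (h.ge (Set.mem_univ x))⟩
  obtain ⟨gR, hmi⟩ := exists_grpObj_of_reduced i (fun x _ => i.left.surjective x)
    (fun x _ => i.left.surjective x) (fun x _ => i.left.surjective x)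
  letI := gR
  haveI := hmi
  let C : Closeds H.left := ⟨closure (Set.range u.left), isClosed_closure⟩
  let Z : Over (Spec (CommRingCat.of k)) :=
    Over.mk ((Scheme.IdealSheafData.vanishingIdeal C).subschemeι ≫ H.hom)
  let j : Z ⟶ H := Over.homMk (Scheme.IdealSheafData.vanishingIdeal C).subschemeι rfl
  haveI : IsClosedImmersion j.left :=
    inferInstanceAs (IsClosedImmersion (Scheme.IdealSheafData.vanishingIdeal C).subschemeι)
  haveI : IsReduced Z.left := H17.isReduced_vanishingIdeal_subscheme C
  haveI : Mono j := Over.mono_of_mono_left _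
  have hj : Set.range j.left = closure (Set.range u.left) := Scheme.IdealSheafData.range_subschemeι _
  obtain ⟨r', hr'⟩ := H17.exists_lift_of_range_subset (i ≫ u).left j.left (by
    rw [hj]
    rintro _ ⟨z, rfl⟩
    exact subset_closure ⟨i.left z, rfl⟩)
  let r : R ⟶ Z := Over.homMk r' (by rw [← Over.w j, ← Category.assoc, hr', Over.w (i ≫ u)])
  have hr : r ≫ j = i ≫ u := Over.OverMorphism.ext hr'
  have hd : DenseRange r.left := by
    intro z
    rw [j.left.isClosedEmbedding.isEmbedding.closure_eq_preimage_closure_image]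
    refine Set.mem_preimage.mpr (closure_mono ?_ (hj.le ⟨z, rfl⟩))
    rintro _ ⟨x, rfl⟩
    obtain ⟨x₀, rfl⟩ := i.left.surjective x
    exact ⟨r.left x₀, ⟨x₀, rfl⟩, congrArg (fun m : R.left ⟶ H.left => m x₀) hr'⟩
  have hpt : ∀ (T : Over (Spec (CommRingCat.of k))) (a : T ⟶ H) (b : T ⟶ G),
      b ≫ u = a → Set.range a.left ⊆ Set.range u.left := by
    rintro T a b rfl _ ⟨x, rfl⟩
    exact ⟨b.left x, rfl⟩
  obtain ⟨gZ, hmj⟩ := exists_grpObj_of_reduced j
    ((hpt _ _ η[G] (IsMonHom.one_hom u)).trans (subset_closure.trans hj.ge))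
    (by
      rw [hj, Over.comp_left, Scheme.Hom.comp_base, TopCat.coe_comp, Set.range_comp]
      have hdd := denseRange_tensorHom r r hd hd
      refine (Set.image_mono ((ContinuousMap.continuous _).range_subset_closure_image_dense hdd)).trans ?_
      refine (image_closure_subset_closure_image (μ[H].left.continuous)).trans (closure_mono ?_)
      rw [← Set.range_comp, ← Set.range_comp]
      rintro _ ⟨x, rfl⟩
      exact hpt _ _ ((i ⊗ₘ i) ≫ μ[G]) (by
        rw [Category.assoc, IsMonHom.mul_hom u, ← Category.assoc, tensorHom_comp_tensorHom, ← hr,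
          ← tensorHom_comp_tensorHom, Category.assoc]) ⟨x, rfl⟩)
    (by
      rw [hj, Over.comp_left, Scheme.Hom.comp_base, TopCat.coe_comp, Set.range_comp, hj]
      refine (image_closure_subset_closure_image (ι[H].left.continuous)).trans (closure_mono ?_)
      rw [← Set.range_comp]
      exact hpt _ (u ≫ ι[H]) ι[G] (GrpObj.inv_hom u))
  letI := gZ
  haveI := hmj
  haveI : IsMonHom (r ≫ j) := by rw [hr]; infer_instance
  haveI : IsMonHom r := isMonHom_of_comp_mono r j
  haveI : Mono r := by
    haveI : Mono (r ≫ j) := by rw [hr]; infer_instance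
    exact mono_of_mono r j
  haveI : Mono r.left := inferInstanceAs (Mono ((Over.forget _).map r))
  haveI : QuasiCompact r.left := by
    haveI : QuasiCompact (r.left ≫ j.left) := by
      rw [show r.left ≫ j.left = i.left ≫ u.left from hr']; infer_instance
    exact .of_comp r.left j.left
  haveI : Surjective r.left := H19Grp.surjective_of_dense_hom r hd
  haveI : Flat r.left := H19Grp.flat_of_dense_hom r hd
  haveI : IsIso r.left := Flat.isIso_of_surjective_of_mono r.left
  haveI : IsAffine Z.left := isAffine_of_isAffineHom j.left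
  haveI : IsAffine R.left := IsAffine.of_isIso r.left
  exact S0593.result R.left G.left i.left

set_option synthInstance.maxHeartbeats 400000 in
set_option maxHeartbeats 1600000 in
/-- A monomorphism of affine groups over a field is a closed immersion. -/
theorem isClosedImmersion_affine {G H : Over (Spec (CommRingCat.of k))} [GrpObj G] [GrpObj H]
    [IsAffine G.left] [IsAffine H.left] (u : G ⟶ H) [IsMonHom u] [Mono u] : IsClosedImmersion u.left := by
  let S : Scheme.{u} := Spec (CommRingCat.of k)
  letI : G.left.Over S := ⟨G.hom⟩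
  letI : H.left.Over S := ⟨H.hom⟩
  letI : GrpObj (G.left.asOver S) := ‹GrpObj G›
  letI : GrpObj (H.left.asOver S) := ‹GrpObj H›
  haveI : u.left.IsOver S := ⟨Over.w u⟩
  letI hG := H19Grp.AffinePoints.hopfOf (CommRingCat.of k) G.left
  letI : Algebra (CommRingCat.of k) Γ(G.left, ⊤) := hG.toBialgebra.toAlgebra
  letI : HopfAlgebra (CommRingCat.of k) Γ(G.left, ⊤) := hG
  letI hH := H19Grp.AffinePoints.hopfOf (CommRingCat.of k) H.left
  letI : Algebra (CommRingCat.of k) Γ(H.left, ⊤) := hH.toBialgebra.toAlgebra
  letI : HopfAlgebra (CommRingCat.of k) Γ(H.left, ⊤) := hH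
  letI : Field ↥(CommRingCat.of k) := (inferInstance : Field k)
  obtain ⟨α, hα⟩ := H19Grp.AffinePoints.exists_bialgHom (R := CommRingCat.of k) (G := G.left) (H := H.left)
    (u : G.left.asOver S ⟶ H.left.asOver S)
  let a : Γ(H.left, ⊤) →ₐ[CommRingCat.of k] Γ(G.left, ⊤) := α
  have hff : Module.FaithfullyFlat a.range Γ(G.left, ⊤) :=
    H20FF.faithfullyFlat_subalgebra (H20FF.isHopfSub_range α)
  let e : Γ(H.left, ⊤) ⟶ CommRingCat.of a.range := CommRingCat.ofHom a.rangeRestrict.toRingHom
  let v : CommRingCat.of a.range ⟶ Γ(G.left, ⊤) := CommRingCat.ofHom a.range.val.toRingHom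
  have hev : e ≫ v = CommRingCat.ofHom a.toRingHom := CommRingCat.hom_ext (RingHom.ext fun _ => rfl)
  haveI : IsClosedImmersion (Spec.map e) := IsClosedImmersion.spec_of_surjective e a.rangeRestrict_surjective
  have hv : Flat (Spec.map v) ∧ Surjective (Spec.map v) :=
    (flat_and_surjective_SpecMap_iff v).mpr (RingHom.faithfullyFlat_algebraMap_iff.mpr hff :
      (algebraMap a.range Γ(G.left, ⊤)).FaithfullyFlat)
  haveI := hv.1
  haveI := hv.2
  have hu : u.left = (G.left.isoSpec.hom ≫ Spec.map v) ≫ (Spec.map e ≫ H.left.isoSpec.inv) := by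
    rw [← cancel_mono H.left.isoSpec.hom]
    simp only [Category.assoc, Iso.inv_hom_id, Category.comp_id]
    rw [← Spec.map_comp, hev]
    exact hα
  haveI : Mono u.left := inferInstanceAs (Mono ((Over.forget _).map u))
  haveI : Mono (G.left.isoSpec.hom ≫ Spec.map v) := mono_of_mono_fac hu.symm
  haveI : IsIso (G.left.isoSpec.hom ≫ Spec.map v) := Flat.isIso_of_surjective_of_mono _
  rw [hu]
  infer_instance

/-- A quasi-compact monomorphism into an affine group over a field is a closed immersion. -/
theorem main {G H : Over (Spec (CommRingCat.of k))} [GrpObj G] [GrpObj H]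
    [IsAffine H.left] (u : G ⟶ H) [IsMonHom u] [Mono u] [QuasiCompact u.left] : IsClosedImmersion u.left := by
  let K := AlgebraicClosure k
  let φ : Spec (CommRingCat.of K) ⟶ Spec (CommRingCat.of k) := Spec.map (CommRingCat.ofHom (algebraMap k K))
  let P := Over.pullback φ
  letI : GrpObj (P.obj G) := Functor.grpObjObj
  letI : GrpObj (P.obj H) := Functor.grpObjObj
  haveI : IsMonHom (P.map u) := inferInstance
  haveI : Mono (P.map u) := Functor.map_mono P u
  haveI : Surjective φ := ⟨fun x => ⟨IsLocalRing.closedPoint K, Subsingleton.elim (α := PrimeSpectrum k) _ _⟩⟩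
  haveI : IsAffineHom H.hom := inferInstance
  haveI : IsAffine (P.obj H).left := inferInstanceAs (IsAffine (pullback H.hom φ))
  have sq := H19Grp.isPullback_map φ u
  haveI : QuasiCompact (P.map u).left := MorphismProperty.of_isPullback sq inferInstance
  haveI := isAffine_source (P.map u)
  have hc := isClosedImmersion_affine (P.map u)
  refine MorphismProperty.of_isPullback_of_descendsAlong (P := @IsClosedImmersion) (Q := H18Descent.fpqc) sq.flip ?_ hc
  exact ⟨⟨inferInstanceAs (Surjective (pullback.fst H.hom φ)), inferInstanceAs (Flat (pullback.fst H.hom φ))⟩,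
    inferInstanceAs (QuasiCompact (pullback.fst H.hom φ))⟩

end Groth.Agent.H06GenSub.MonoAffine
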