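import Mathlib
import Groth.Agent.H06Sep.RingsFibre
import Groth.Agent.H17.Image

/-!
Dominant families over a field: reduced targets, closed immersions, products of geometrically reduced schemes.
-/

set_option autoImplicit false
set_option linter.style.haveILetI false
set_option backward.isDefEq.respectTransparency false

universe u

open CategoryTheory CategoryTheory.Limits MonoidalCategory CartesianMonoidalCategory AlgebraicGeometry

namespace Groth.Agent.H06GenSub

open Groth.Agent.H06Sep (Dominant)

variable {X : Scheme.{u}} {ι : Type u} {Z : ι → Scheme.{u}} {f : ∀ i, Z i ⟶ X}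

/-- In a reduced scheme a family with dense image is schematically dominant. -/
theorem dominant_of_dense [IsReduced X] (h : Dense (⋃ i, Set.range (f i))) : Dominant f := by
  intro V t ht
  rw [← basicOpen_eq_bot_iff, ← TopologicalSpace.Opens.coe_eq_empty]
  by_contra hne
  obtain ⟨x, hx, hx'⟩ := h.inter_open_nonempty _ (X.basicOpen t).2 (Set.nonempty_iff_ne_empty.mpr hne)
  obtain ⟨i, z, rfl⟩ := Set.mem_iUnion.mp hx'
  have h1 : z ∈ f i ⁻¹ᵁ X.basicOpen t := hx
  rw [Scheme.preimage_basicOpen, ht i, Scheme.basicOpen_zero] at h1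
  exact h1

/-- A closed immersion through which a dominant family factors is an isomorphism. -/
theorem isIso_of_dominant (h : Dominant f) {P : Scheme.{u}} (c : P ⟶ X) [IsClosedImmersion c]
    (hf : ∀ i, ∃ g : Z i ⟶ P, g ≫ c = f i) : IsIso c := by
  refine IsClosedImmersion.isIso_iff_ker_eq_bot.mpr ?_
  ext1
  funext U
  refine le_bot_iff.mp ((c.ideal_ker_le U).trans fun s hs => ?_)
  refine Ideal.mem_bot.mpr (h U.1 s fun i => ?_)
  obtain ⟨g, hg⟩ := hf i
  rw [Scheme.Hom.congr_app hg.symm U.1, Scheme.Hom.comp_app]
  simp only [CommRingCat.comp_apply, RingHom.mem_ker.mp hs, map_zero]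

/-- The image of a dominant family is dense. -/
theorem dense_of_dominant (h : Dominant f) : Dense (⋃ i, Set.range (f i)) := by
  let C : TopologicalSpace.Closeds X := ⟨closure (⋃ i, Set.range (f i)), isClosed_closure⟩
  let j := (Scheme.IdealSheafData.vanishingIdeal C).subschemeι
  have hr : Set.range j = (C : Set X) := Scheme.IdealSheafData.range_subschemeι _
  rw [dense_iff_closure_eq]
  by_contra hne
  obtain ⟨x, hx⟩ := (Set.ne_univ_iff_exists_notMem _).mp hne
  obtain ⟨V, hV, hxV, hVC⟩ := exists_isAffineOpen_mem_and_subset (U := ⟨(C : Set X)ᶜ, C.2.isOpen_compl⟩) (x := x) hx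
  have h1 : (1 : Γ(X, V)) = 0 := h V 1 fun i => by
    haveI : IsEmpty (f i ⁻¹ᵁ V).toScheme :=
      ⟨fun z => hVC z.2 (subset_closure (Set.mem_iUnion.mpr ⟨i, _, rfl⟩))⟩
    haveI : Subsingleton Γ(Z i, f i ⁻¹ᵁ V) := by
      rw [show f i ⁻¹ᵁ V = ⊥ from TopologicalSpace.Opens.ext (Set.eq_empty_of_forall_notMem
        fun z hz => hVC hz (subset_closure (Set.mem_iUnion.mpr ⟨i, _, rfl⟩)))]
      infer_instance
    exact Subsingleton.elim _ _
  haveI : Nontrivial Γ(X, V) := by
    haveI : Nonempty V := ⟨⟨x, hxV⟩⟩
    infer_instance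
  exact one_ne_zero h1

/-- A scheme dominated by a family of reduced schemes is reduced. -/
theorem isReduced_of_dominant (h : Dominant f) [∀ i, IsReduced (Z i)] : IsReduced X := by
  haveI : ∀ U : X.Opens, _root_.IsReduced Γ(X, U) := fun U => ⟨fun t ht =>
    h U t fun i => IsReduced.eq_zero _ (ht.map ((f i).app U).hom)⟩
  exact ⟨this⟩

/-- A dominant family landing in an open subscheme is dominant there. -/
theorem dominant_lift (h : Dominant f) (U : X.Opens) (g : ∀ i, Z i ⟶ U.toScheme) (hg : ∀ i, g i ≫ U.ι = f i) :
    Dominant g := by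
  intro V t ht
  obtain ⟨s, rfl⟩ := (ConcreteCategory.bijective_of_isIso (U.ι.appIso V).hom).2 t
  suffices h0 : s = 0 by rw [h0, map_zero]
  refine h _ s fun i => ?_
  have key : ∀ (V' : U.toScheme.Opens) (e : V' = V) (r : Γ(U.toScheme, V')),
      U.toScheme.presheaf.map (eqToHom e.symm).op r = (U.ι.appIso V).hom s → (g i).app V' r = 0 := by
    rintro V' rfl r hr
    simp only [eqToHom_refl, op_id, CategoryTheory.Functor.map_id, CommRingCat.id_apply] at hr
    rw [hr]
    exact ht i
  rw [Scheme.Hom.congr_app (hg i).symm, Scheme.Hom.comp_app]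
  simp only [CommRingCat.comp_apply]
  exact (congrArg _ (key _ (U.ι.preimage_image_eq V) (U.ι.app _ s) (by rw [Scheme.Hom.appIso_hom]; rfl))).trans (map_zero _)

section Field

variable {k : Type u} [Field k] {T : Over (Spec (CommRingCat.of k))}

theorem isReduced_of_iso {A B : Over (Spec (CommRingCat.of k))} (e : A ≅ B) [IsReduced A.left] : IsReduced B.left := by
  haveI : IsIso e.inv.left := inferInstanceAs (IsIso ((Over.forget _).map e.inv))
  exact isReduced_of_isOpenImmersion e.inv.left

/-- Dominant families stay dominant after multiplying by a scheme over the field. -/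
theorem dominant_tensor {Y : Over (Spec (CommRingCat.of k))} {W : ι → Over (Spec (CommRingCat.of k))}
    {φ : ∀ i, W i ⟶ Y} (h : Dominant fun i => (φ i).left) (T : Over (Spec (CommRingCat.of k))) :
    Dominant fun i => (φ i ▷ T).left := by
  have H₀ : IsPullback (fst Y T).left (snd Y T).left Y.hom T.hom := IsPullback.of_hasPullback Y.hom T.hom
  refine H06Sep.dominant_field Y.hom H₀ (g' := fun i => (fst (W i) T).left) (fun i => ?_) h
  refine H06Sep.isPullback_member H₀ (r := (snd (W i) T).left) ?_ ?_ ?_
  · rw [Over.w (φ i)]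
    exact IsPullback.of_hasPullback (W i).hom T.hom
  · rw [← Over.comp_left, ← Over.comp_left, whiskerRight_fst]
  · rw [← Over.comp_left, whiskerRight_snd]

/-- The residue field points of a scheme, as objects over the base. -/
noncomputable def pt {S : Scheme.{u}} (Y : Over S) (y : Y.left) : Over S :=
  Over.mk (Y.left.fromSpecResidueField y ≫ Y.hom)

/-- The inclusion of a residue field point. -/
noncomputable def ptι {S : Scheme.{u}} (Y : Over S) (y : Y.left) : pt Y y ⟶ Y :=
  Over.homMk (Y.left.fromSpecResidueField y) rfl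

theorem dominant_ptι (Y : Over (Spec (CommRingCat.of k))) [IsReduced Y.left] :
    Dominant fun y : Y.left => (ptι Y y).left := by
  refine dominant_of_dense ?_
  have : (⋃ y : Y.left, Set.range (ptι Y y).left) = Set.univ := Set.eq_univ_of_forall fun y =>
    Set.mem_iUnion.mpr ⟨y, by
      show y ∈ Set.range (Y.left.fromSpecResidueField y)
      rw [Scheme.range_fromSpecResidueField]
      exact rfl⟩
  rw [this]
  exact dense_univ

/-- A product of a geometrically reduced scheme and a reduced scheme over a field is reduced. -/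
theorem isReduced_tensor {Y T : Over (Spec (CommRingCat.of k))} [IsReduced T.left] [GeometricallyReduced Y.hom] :
    IsReduced (T ⊗ Y).left := by
  haveI : ∀ t : T.left, IsReduced (pt T t ⊗ Y).left := fun t => by
    show IsReduced (pullback (pt T t).hom Y.hom)
    exact GeometricallyReduced.geometrically_isReduced (f := Y.hom) _ _ _
      (IsPullback.of_hasPullback (pt T t).hom Y.hom).flip
  exact isReduced_of_dominant (dominant_tensor (dominant_ptι T) Y)

/-- Geometrically reduced from reducedness of the products with fields. -/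
theorem geometricallyReduced_of_tensor {Y : Over (Spec (CommRingCat.of k))}
    (h : ∀ T : Over (Spec (CommRingCat.of k)), IsReduced T.left → IsReduced (T ⊗ Y).left) :
    GeometricallyReduced Y.hom := by
  refine ⟨fun K _ y W p q hpb => ?_⟩
  haveI := h (Over.mk y) (inferInstanceAs (IsReduced (Spec (CommRingCat.of K))))
  haveI : IsReduced (pullback y Y.hom) := this
  exact isReduced_of_isOpenImmersion (hpb.flip.isoPullback).hom

/-- Products of geometrically reduced schemes are geometrically reduced. -/
theorem geometricallyReduced_tensor {Y Y' : Over (Spec (CommRingCat.of k))} [GeometricallyReduced Y.hom]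
    [GeometricallyReduced Y'.hom] : GeometricallyReduced (Y ⊗ Y').hom := by
  refine geometricallyReduced_of_tensor fun T hT => ?_
  haveI := hT
  haveI : IsReduced (T ⊗ Y).left := isReduced_tensor
  haveI : IsReduced ((T ⊗ Y) ⊗ Y').left := isReduced_tensor
  exact isReduced_of_iso (α_ T Y Y')

theorem geometricallyReduced_unit :
    GeometricallyReduced (𝟙_ (Over (Spec (CommRingCat.of k)))).hom := by
  refine geometricallyReduced_of_tensor fun T hT => ?_
  haveI := hT
  exact isReduced_of_iso (ρ_ T).symm

/-- Geometric reducedness of the target of a dominant family of geometrically reduced schemes. -/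
theorem geometricallyReduced_of_dominant {Y : Over (Spec (CommRingCat.of k))}
    {W : ι → Over (Spec (CommRingCat.of k))} {φ : ∀ i, W i ⟶ Y} (h : Dominant fun i => (φ i).left)
    [∀ i, GeometricallyReduced (W i).hom] : GeometricallyReduced Y.hom := by
  refine geometricallyReduced_of_tensor fun T hT => ?_
  haveI := hT
  haveI : ∀ i, IsReduced (W i ⊗ T).left := fun i => by
    haveI : IsReduced (T ⊗ W i).left := isReduced_tensor
    exact isReduced_of_iso (β_ T (W i))
  haveI := isReduced_of_dominant (dominant_tensor h T)
  exact isReduced_of_iso (β_ Y T)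

/-- A morphism factors through a closed immersion if it does so after a dominant family. -/
theorem exists_factor {Y Z P : Over (Spec (CommRingCat.of k))}
    {W : ι → Over (Spec (CommRingCat.of k))} {φ : ∀ i, W i ⟶ Y} (h : Dominant fun i => (φ i).left)
    (c : P ⟶ Z) [IsClosedImmersion c.left] (ψ : Y ⟶ Z) (hψ : ∀ i, ∃ g : W i ⟶ P, g ≫ c = φ i ≫ ψ) :
    ∃ g : Y ⟶ P, g ≫ c = ψ := by
  let p := pullback.fst ψ.left c.left
  haveI : IsIso p := isIso_of_dominant h p fun i => by
    obtain ⟨g, hg⟩ := hψ i
    exact ⟨pullback.lift (φ i).left g.left (congrArg Over.Hom.left hg).symm, pullback.lift_fst _ _ _⟩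
  refine ⟨Over.homMk (inv p ≫ pullback.snd ψ.left c.left) ?_, ?_⟩
  · rw [← Over.w c, Category.assoc, ← pullback.condition_assoc, IsIso.inv_hom_id_assoc, Over.w ψ]
  · apply Over.OverMorphism.ext
    show (inv p ≫ pullback.snd ψ.left c.left) ≫ c.left = ψ.left
    rw [Category.assoc, ← pullback.condition, IsIso.inv_hom_id_assoc]

end Field

end Groth.Agent.H06GenSub
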