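import Mathlib
import Groth.Agent.H06GenSub.Dominant
import Groth.Agent.H17.Reduced
import Groth.Agent.H21Cent.SubObj

/-!
The subgroup generated by a family of morphisms from geometrically reduced schemes into a group scheme over
a field: the reduced closure of the set of words.
-/

set_option autoImplicit false
set_option linter.style.haveILetI false
set_option linter.unusedSectionVars false
set_option backward.isDefEq.respectTransparency false

universe u

open CategoryTheory CategoryTheory.Limits MonoidalCategory CartesianMonoidalCategory MonObj GrpObj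
  AlgebraicGeometry

namespace Groth.Agent.H06GenSub

open Groth.Agent.H06Sep (Dominant)

section General

variable {S : Scheme.{u}} {G : Over S} [GrpObj G]

/-- An element or its inverse. -/
noncomputable def sgn {T : Over S} (b : Bool) (g : T ⟶ G) : T ⟶ G := if b then g else g⁻¹

theorem comp_sgn {T T' : Over S} (q : T' ⟶ T) (b : Bool) (g : T ⟶ G) : q ≫ sgn b g = sgn b (q ≫ g) := by
  cases b <;> simp [sgn, GrpObj.comp_inv]

theorem inv_sgn {T : Over S} (b : Bool) (g : T ⟶ G) : (sgn b g)⁻¹ = sgn (!b) g := by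
  cases b <;> simp [sgn]

variable {J : Type u} {X : J → Over S}

/-- The source of the word map of a list of signed letters. -/
noncomputable def wordSrc (X : J → Over S) : List (J × Bool) → Over S
  | [] => 𝟙_ (Over S)
  | (j, _) :: l => X j ⊗ wordSrc X l

variable (f : ∀ j, X j ⟶ G)

/-- The word map of a list of signed letters. -/
noncomputable def word : ∀ l : List (J × Bool), wordSrc X l ⟶ G
  | [] => (1 : 𝟙_ (Over S) ⟶ G)
  | (j, b) :: l => sgn b (fst (X j) (wordSrc X l) ≫ f j) * (snd (X j) (wordSrc X l) ≫ word l)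

/-- A point of the group is a word if it factors through a word map. -/
def IsWord {T : Over S} (g : T ⟶ G) : Prop := ∃ (l : List (J × Bool)) (v : T ⟶ wordSrc X l), v ≫ word f l = g

theorem comp_word_cons {T : Over S} (a : J × Bool) (l : List (J × Bool)) (v : T ⟶ wordSrc X (a :: l)) :
    v ≫ word f (a :: l) = sgn a.2 ((v ≫ fst (X a.1) (wordSrc X l)) ≫ f a.1) *
      ((v ≫ snd (X a.1) (wordSrc X l)) ≫ word f l) := by
  obtain ⟨j, b⟩ := a
  show v ≫ (sgn b (fst (X j) (wordSrc X l) ≫ f j) * (snd (X j) (wordSrc X l) ≫ word f l)) = _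
  rw [MonObj.comp_mul, comp_sgn, Category.assoc, Category.assoc]

variable {f}

theorem isWord_word (l : List (J × Bool)) : IsWord f (word f l) := ⟨l, 𝟙 _, Category.id_comp _⟩

theorem isWord_comp {T T' : Over S} (q : T' ⟶ T) {g : T ⟶ G} (h : IsWord f g) : IsWord f (q ≫ g) := by
  obtain ⟨l, v, rfl⟩ := h
  exact ⟨l, q ≫ v, Category.assoc _ _ _⟩

theorem isWord_one {T : Over S} : IsWord f (1 : T ⟶ G) :=
  ⟨[], toUnit T, MonObj.comp_one _⟩

theorem isWord_cons {T : Over S} (b : Bool) {j : J} (x : T ⟶ X j) {g : T ⟶ G} (h : IsWord f g) :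
    IsWord f (sgn b (x ≫ f j) * g) := by
  obtain ⟨l, v, rfl⟩ := h
  refine ⟨(j, b) :: l, lift x v, ?_⟩
  show lift x v ≫ (sgn b (fst (X j) (wordSrc X l) ≫ f j) * (snd (X j) (wordSrc X l) ≫ word f l)) = _
  rw [MonObj.comp_mul, comp_sgn, lift_fst_assoc, lift_snd_assoc]

theorem isWord_sgn {T : Over S} (b : Bool) {j : J} (x : T ⟶ X j) : IsWord f (sgn b (x ≫ f j)) := by
  have := isWord_cons (f := f) b x isWord_one
  rwa [_root_.mul_one] at this

theorem isWord_gen {T : Over S} {j : J} (x : T ⟶ X j) : IsWord f (x ≫ f j) := by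
  simpa [sgn] using isWord_sgn (f := f) true x

theorem isWord_mul {T : Over S} {g h : T ⟶ G} (hg : IsWord f g) (hh : IsWord f h) : IsWord f (g * h) := by
  obtain ⟨l, v, rfl⟩ := hg
  induction l with
  | nil =>
    rw [show v ≫ word f [] = (1 : T ⟶ G) from MonObj.comp_one _, _root_.one_mul]
    exact hh
  | cons a l ih =>
    obtain ⟨j, b⟩ := a
    rw [show v ≫ word f ((j, b) :: l) = sgn b ((v ≫ fst _ _) ≫ f j) * ((v ≫ snd _ _) ≫ word f l) by
      show v ≫ (sgn b (fst (X j) (wordSrc X l) ≫ f j) * (snd (X j) (wordSrc X l) ≫ word f l)) = _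
      rw [MonObj.comp_mul, comp_sgn, Category.assoc, Category.assoc], _root_.mul_assoc]
    exact isWord_cons b _ (ih (v ≫ snd _ _))

theorem isWord_inv {T : Over S} {g : T ⟶ G} (hg : IsWord f g) : IsWord f g⁻¹ := by
  obtain ⟨l, v, rfl⟩ := hg
  induction l with
  | nil =>
    rw [show v ≫ word f [] = (1 : T ⟶ G) from MonObj.comp_one _, inv_one]
    exact isWord_one
  | cons a l ih =>
    obtain ⟨j, b⟩ := a
    rw [show v ≫ word f ((j, b) :: l) = sgn b ((v ≫ fst _ _) ≫ f j) * ((v ≫ snd _ _) ≫ word f l) by
      show v ≫ (sgn b (fst (X j) (wordSrc X l) ≫ f j) * (snd (X j) (wordSrc X l) ≫ word f l)) = _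
      rw [MonObj.comp_mul, comp_sgn, Category.assoc, Category.assoc], _root_.mul_inv_rev, inv_sgn]
    exact isWord_mul (ih (v ≫ snd _ _)) (isWord_sgn _ _)

/-- Words lie in every subgroup containing the generators. -/
theorem factor_of_isWord {H : Over S} [GrpObj H] (i : H ⟶ G) [IsMonHom i] (hf : ∀ j, ∃ g, g ≫ i = f j)
    {T : Over S} {g : T ⟶ G} (hg : IsWord f g) : ∃ h : T ⟶ H, h ≫ i = g := by
  obtain ⟨l, v, rfl⟩ := hg
  suffices hl : ∃ h : wordSrc X l ⟶ H, h ≫ i = word f l by
    obtain ⟨h, hh⟩ := hl
    exact ⟨v ≫ h, by rw [Category.assoc, hh]⟩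
  clear v
  induction l with
  | nil => exact ⟨(1 : 𝟙_ (Over S) ⟶ H), MonObj.one_comp i⟩
  | cons a l ih =>
    obtain ⟨j, b⟩ := a
    obtain ⟨h, hh⟩ := ih
    obtain ⟨g, hg⟩ := hf j
    refine ⟨(if b then (fst (X j) (wordSrc X l) ≫ g) else (fst (X j) (wordSrc X l) ≫ g)⁻¹) *
      (snd (X j) (wordSrc X l) ≫ h), ?_⟩
    show _ = sgn b (fst (X j) (wordSrc X l) ≫ f j) * (snd (X j) (wordSrc X l) ≫ word f l)
    rw [MonObj.mul_comp, Category.assoc, hh]
    congr 1
    cases b <;> simp [sgn, GrpObj.inv_comp, hg]

variable (f)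

/-- The set of points lying under a word. -/
def wordSet : Set G.left := ⋃ l : List (J × Bool), Set.range (word f l).left

variable {f}

theorem range_subset_wordSet {T : Over S} {g : T ⟶ G} (h : IsWord f g) : Set.range g.left ⊆ wordSet f := by
  obtain ⟨l, v, rfl⟩ := h
  rintro _ ⟨t, rfl⟩
  exact Set.mem_iUnion.mpr ⟨l, v.left t, by rw [Over.comp_left]; rfl⟩

/-- Points lying under the products of two points in the word set. -/
theorem mem_wordSet_iff {x : G.left} :
    x ∈ wordSet f ↔ ∃ (T : Over S) (t : T.left) (g : T ⟶ G), IsWord f g ∧ g.left t = x := by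
  constructor
  · intro hx
    obtain ⟨l, t, rfl⟩ := Set.mem_iUnion.mp hx
    exact ⟨_, t, _, isWord_word l, rfl⟩
  · rintro ⟨T, t, g, hg, rfl⟩
    exact range_subset_wordSet hg ⟨t, rfl⟩

end General

section Field

variable {k : Type u} [Field k] {G : Over (Spec (CommRingCat.of k))} [GrpObj G] {J : Type u}
  {X : J → Over (Spec (CommRingCat.of k))} (f : ∀ j, X j ⟶ G) [∀ j, GeometricallyReduced (X j).hom]

instance geometricallyReduced_wordSrc : ∀ l : List (J × Bool), GeometricallyReduced (wordSrc X l).hom
  | [] => geometricallyReduced_unit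
  | (_, _) :: l => by
    haveI := geometricallyReduced_wordSrc l
    exact geometricallyReduced_tensor

theorem isReduced_of_geometricallyReduced (Y : Over (Spec (CommRingCat.of k))) [GeometricallyReduced Y.hom] :
    IsReduced Y.left := by
  haveI : IsReduced (𝟙_ (Over (Spec (CommRingCat.of k)))).left :=
    inferInstanceAs (IsReduced (Spec (CommRingCat.of k)))
  haveI : IsReduced (𝟙_ (Over (Spec (CommRingCat.of k))) ⊗ Y).left := isReduced_tensor
  exact isReduced_of_iso (λ_ Y)

/-- The ideal of the reduced closure of the words. -/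
noncomputable def genIdeal : G.left.IdealSheafData :=
  Scheme.IdealSheafData.vanishingIdeal ⟨closure (wordSet f), isClosed_closure⟩

/-- The subgroup generated by the family. -/
noncomputable def gen : Over (Spec (CommRingCat.of k)) := Over.mk ((genIdeal f).subschemeι ≫ G.hom)

/-- Its inclusion. -/
noncomputable def genι : gen f ⟶ G := Over.homMk (genIdeal f).subschemeι rfl

instance : IsClosedImmersion (genι f).left := inferInstanceAs (IsClosedImmersion (genIdeal f).subschemeι)

instance : Mono (genι f) :=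
  (Over.forget _).mono_of_mono_map (show Mono (genIdeal f).subschemeι from inferInstance)

theorem range_genι : Set.range (genι f).left = closure (wordSet f) :=
  (genIdeal f).range_subschemeι.trans (Scheme.IdealSheafData.coe_support_vanishingIdeal _)

theorem exists_wordLift (l : List (J × Bool)) : ∃ v : wordSrc X l ⟶ gen f, v ≫ genι f = word f l := by
  haveI := isReduced_of_geometricallyReduced (wordSrc X l)
  obtain ⟨v, hv⟩ := H17.exists_lift_of_range_subset (word f l).left (genι f).left (by
    rw [range_genι]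
    exact (Set.subset_iUnion (fun l => Set.range (word f l).left) l).trans subset_closure)
  refine ⟨Over.homMk v ?_, Over.OverMorphism.ext hv⟩
  rw [← Over.w (genι f), ← Category.assoc, hv, Over.w]

/-- The word maps into the generated subgroup. -/
noncomputable def wordLift (l : List (J × Bool)) : wordSrc X l ⟶ gen f := (exists_wordLift f l).choose

@[reassoc (attr := simp)]
theorem wordLift_ι (l : List (J × Bool)) : wordLift f l ≫ genι f = word f l := (exists_wordLift f l).choose_spec

theorem factor_gen_of_isWord {T : Over (Spec (CommRingCat.of k))} {g : T ⟶ G} (h : IsWord f g) :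
    ∃ v : T ⟶ gen f, v ≫ genι f = g := by
  obtain ⟨l, v, rfl⟩ := h
  exact ⟨v ≫ wordLift f l, by rw [Category.assoc, wordLift_ι]⟩

theorem dense_wordLift : Dense (⋃ l, Set.range (wordLift f l).left) := by
  have he := (genι f).left.isClosedEmbedding
  intro x
  rw [he.isEmbedding.closure_eq_preimage_closure_image, Set.mem_preimage, Set.image_iUnion]
  have h1 : ∀ l, (genι f).left '' Set.range (wordLift f l).left = Set.range (word f l).left := fun l => by
    rw [← Set.range_comp, ← wordLift_ι f l, Over.comp_left]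
    rfl
  rw [Set.iUnion_congr h1]
  exact (range_genι f).le ⟨x, rfl⟩

theorem isReduced_gen : IsReduced (gen f).left :=
  H17.isReduced_vanishingIdeal_subscheme _

theorem dominant_wordLift : Dominant fun l => (wordLift f l).left := by
  haveI := isReduced_gen f
  exact dominant_of_dense (dense_wordLift f)

theorem geometricallyReduced_gen : GeometricallyReduced (gen f).hom :=
  geometricallyReduced_of_dominant (dominant_wordLift f)

theorem exists_grpObj_gen : ∃ _ : GrpObj (gen f), IsMonHom (genι f) := by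
  have hdom := dominant_wordLift f
  have hi : ∃ i : gen f ⟶ gen f, i ≫ genι f = (genι f)⁻¹ :=
    exists_factor hdom (genι f) _ fun l => by
      obtain ⟨v, hv⟩ := factor_gen_of_isWord f (isWord_inv (isWord_word (f := f) l))
      exact ⟨v, by rw [hv, GrpObj.comp_inv, wordLift_ι]⟩
  have hm : ∃ m : gen f ⊗ gen f ⟶ gen f, m ≫ genι f =
      (fst (gen f) (gen f) ≫ genι f) * (snd (gen f) (gen f) ≫ genι f) := by
    refine exists_factor (dominant_tensor hdom (gen f)) (genι f) _ fun l => ?_
    obtain ⟨g, hg⟩ : ∃ g : gen f ⊗ wordSrc X l ⟶ gen f, g ≫ genι f =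
        (snd (gen f) (wordSrc X l) ≫ word f l) * (fst (gen f) (wordSrc X l) ≫ genι f) :=
      exists_factor (dominant_tensor hdom (wordSrc X l)) (genι f) _ fun m => by
        obtain ⟨v, hv⟩ := factor_gen_of_isWord f
          (isWord_mul (isWord_comp (snd (wordSrc X m) (wordSrc X l)) (isWord_word (f := f) l))
            (isWord_comp (fst (wordSrc X m) (wordSrc X l)) (isWord_word (f := f) m)))
        exact ⟨v, by rw [hv, MonObj.comp_mul, whiskerRight_snd_assoc, whiskerRight_fst_assoc, wordLift_ι]⟩
    refine ⟨(β_ _ _).hom ≫ g, ?_⟩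
    rw [Category.assoc, hg, MonObj.comp_mul, MonObj.comp_mul, whiskerRight_fst_assoc, whiskerRight_snd_assoc,
      wordLift_ι, braiding_hom_fst_assoc, braiding_hom_snd_assoc]
  have he : ∃ e : 𝟙_ (Over (Spec (CommRingCat.of k))) ⟶ gen f, e ≫ genι f = 1 :=
    factor_gen_of_isWord f isWord_one
  exact H21Cent.exists_grpObj_of_mono (genι f) he hm hi

/-- The generated subgroup is contained in every closed subgroup containing the generators. -/
theorem gen_le {H : Over (Spec (CommRingCat.of k))} [GrpObj H] (i : H ⟶ G) [IsMonHom i]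
    [IsClosedImmersion i.left] (hf : ∀ j, ∃ g, g ≫ i = f j) : ∃ g : gen f ⟶ H, g ≫ i = genι f :=
  exists_factor (dominant_wordLift f) i _ fun l => by
    obtain ⟨g, hg⟩ := factor_of_isWord i hf (isWord_word (f := f) l)
    exact ⟨g, by rw [hg, wordLift_ι]⟩

theorem exists_gen_lift (j : J) : ∃ g, g ≫ genι f = f j := by
  have := factor_gen_of_isWord f (isWord_gen (f := f) (j := j) (𝟙 (X j)))
  simpa using this

/-- The underlying set of a smallest closed subgroup containing the generators. -/
theorem range_smallest {H : Over (Spec (CommRingCat.of k))} [GrpObj H] (i : H ⟶ G) [IsMonHom i]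
    [IsClosedImmersion i.left] (hf : ∀ j, ∃ g, g ≫ i = f j)
    (hmin : ∀ (Γ' : Over (Spec (CommRingCat.of k))) (_ : GrpObj Γ') (i' : Γ' ⟶ G), IsMonHom i' →
      IsClosedImmersion i'.left → (∀ j, ∃ g, g ≫ i' = f j) → ∃ j : H ⟶ Γ', j ≫ i' = i) :
    ∃ e : H ≅ gen f, e.hom ≫ genι f = i := by
  obtain ⟨inst, hι⟩ := exists_grpObj_gen f
  letI := inst
  haveI := hι
  obtain ⟨a, ha⟩ := hmin (gen f) inst (genι f) hι inferInstance (exists_gen_lift f)
  obtain ⟨b, hb⟩ := gen_le f i hf
  haveI : Mono i := Over.mono_of_mono_left _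
  exact ⟨⟨a, b, by rw [← cancel_mono i, Category.assoc, hb, ha, Category.id_comp],
    by rw [← cancel_mono (genι f), Category.assoc, ha, hb, Category.id_comp]⟩, ha⟩

end Field

end Groth.Agent.H06GenSub
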