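import Mathlib
import Groth.Agent.H06GenSub.Words
import Groth.Prelude.Def_Red

/-!
Base change of generated subgroups: an immersed subgroup through which the base changed words factor contains
the base changed subgroup.
-/

set_option autoImplicit false
set_option linter.style.haveILetI false
set_option linter.unusedSectionVars false
set_option backward.isDefEq.respectTransparency false
set_option synthInstance.maxHeartbeats 100000

universe u

open CategoryTheory CategoryTheory.Limits MonoidalCategory CartesianMonoidalCategory MonObj GrpObj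
  AlgebraicGeometry
open scoped CategoryTheory.Obj

namespace Groth.Agent.H06GenSub

open Groth.Agent.H06Sep (Dominant)

variable {k : Type u} [Field k]

theorem range_ptι {S : Scheme.{u}} (Y : Over S) (y : Y.left) : Set.range (ptι Y y).left = {y} :=
  Scheme.range_fromSpecResidueField _

/-- The translation of the product with a test scheme by a point with values in it. -/
noncomputable def twist {Γ T : Over (Spec (CommRingCat.of k))} [GrpObj Γ] (ξ : T ⟶ Γ) : Γ ⊗ T ⟶ Γ ⊗ T :=
  lift (fst Γ T * (snd Γ T ≫ ξ)) (snd Γ T)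

theorem twist_inv_comp {Γ T : Over (Spec (CommRingCat.of k))} [GrpObj Γ] (ξ : T ⟶ Γ) :
    twist ξ⁻¹ ≫ twist ξ = 𝟙 _ := by
  apply CartesianMonoidalCategory.hom_ext
  · rw [twist, twist, Category.assoc, lift_fst, MonObj.comp_mul, lift_snd_assoc, lift_fst, GrpObj.comp_inv,
      inv_mul_cancel_right, Category.id_comp]
  · rw [twist, twist, Category.assoc, lift_snd, lift_snd, Category.id_comp]

/-- An open set containing a dense set meets its translates. -/
theorem exists_mul_mem {Γ T : Over (Spec (CommRingCat.of k))} [GrpObj Γ] (ξ : T ⟶ Γ) (t : T.left)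
    (U : (Γ ⊗ T).left.Opens) (hU : Dense (U : Set (Γ ⊗ T).left)) :
    ∃ (z : (Γ ⊗ T).left), z ∈ U ∧
      Set.range (ptι (Γ ⊗ T) z ≫ lift (fst Γ T * (snd Γ T ≫ ξ)) (snd Γ T)).left ⊆ U := by
  have hV : IsOpen ((twist ξ).left ⁻¹' (U : Set (Γ ⊗ T).left)) := U.2.preimage (twist ξ).left.continuous
  haveI : Nonempty (Γ ⊗ T).left := ⟨(lift (1 : T ⟶ Γ) (𝟙 T)).left t⟩
  obtain ⟨x, hx⟩ := hU.nonempty
  have hne : ((twist ξ).left ⁻¹' (U : Set (Γ ⊗ T).left)).Nonempty := by
    refine ⟨(twist ξ⁻¹).left x, ?_⟩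
    rw [Set.mem_preimage, ← Scheme.Hom.comp_apply, ← Over.comp_left, twist_inv_comp]
    exact hx
  obtain ⟨z, hz, hzU⟩ := hU.inter_open_nonempty _ hV hne
  refine ⟨z, hzU, ?_⟩
  rintro _ ⟨w, rfl⟩
  rw [Over.comp_left, Scheme.Hom.comp_apply,
    show (ptι (Γ ⊗ T) z).left w = z from (range_ptι (Γ ⊗ T) z).le ⟨w, rfl⟩]
  exact hz

section Pull

variable {S : Scheme.{u}} (σ : S ⟶ Spec (CommRingCat.of k))

/-- A point with values in an `S`-scheme of a scheme over the field, as a point of the base change. -/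
noncomputable def pull {Z : Over S} {Y : Over (Spec (CommRingCat.of k))}
    (g : (Over.map σ).obj Z ⟶ Y) : Z ⟶ Red.bc σ Y :=
  Over.homMk (pullback.lift g.left Z.hom (by simpa using Over.w g)) (pullback.lift_snd _ _ _)

theorem pull_fst {Z : Over S} {Y : Over (Spec (CommRingCat.of k))} (g : (Over.map σ).obj Z ⟶ Y) :
    (pull σ g).left ≫ pullback.fst Y.hom σ = g.left := pullback.lift_fst _ _ _

theorem pull_snd {Z : Over S} {Y : Over (Spec (CommRingCat.of k))} (g : (Over.map σ).obj Z ⟶ Y) :
    (pull σ g).left ≫ pullback.snd Y.hom σ = Z.hom := pullback.lift_snd _ _ _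

theorem pull_eq {Z : Over S} {Y : Over (Spec (CommRingCat.of k))} (g : (Over.map σ).obj Z ⟶ Y) :
    pull σ g = pull σ (𝟙 ((Over.map σ).obj Z)) ≫ (Over.pullback σ).map g := by
  ext1
  apply pullback.hom_ext
  · simp [pull]
    exact (Category.id_comp _).symm
  · simp [pull]

theorem pull_mul {Z : Over S} {Y : Over (Spec (CommRingCat.of k))} [GrpObj Y]
    (g h : (Over.map σ).obj Z ⟶ Y) : pull σ (g * h) = pull σ g * pull σ h := by
  rw [pull_eq σ (g * h), pull_eq σ g, pull_eq σ h, Functor.map_mul, MonObj.comp_mul]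

theorem pull_inv {Z : Over S} {Y : Over (Spec (CommRingCat.of k))} [GrpObj Y]
    (g : (Over.map σ).obj Z ⟶ Y) : pull σ g⁻¹ = (pull σ g)⁻¹ := by
  rw [pull_eq σ g⁻¹, pull_eq σ g, Functor.map_inv', GrpObj.comp_inv]

variable {G : Over (Spec (CommRingCat.of k))} [GrpObj G] {J : Type u}
  {X : J → Over (Spec (CommRingCat.of k))} (f : ∀ j, X j ⟶ G) [∀ j, GeometricallyReduced (X j).hom]

theorem map_word_factor {H : Over S} [GrpObj H] (i : H ⟶ Red.bc σ G) [IsMonHom i]
    (hf : ∀ j, ∃ g, g ≫ i = (Over.pullback σ).map (f j)) (l : List (J × Bool)) :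
    ∃ h, h ≫ i = (Over.pullback σ).map (word f l) := by
  induction l with
  | nil =>
    refine ⟨1, ?_⟩
    rw [MonObj.one_comp]
    exact (Functor.map_one _).symm
  | cons a l ih =>
    obtain ⟨j, b⟩ := a
    obtain ⟨h, hh⟩ := ih
    obtain ⟨g, hg⟩ := hf j
    let p := (Over.pullback σ).map (fst (X j) (wordSrc X l))
    let q := (Over.pullback σ).map (snd (X j) (wordSrc X l))
    refine ⟨(if b then p ≫ g else (p ≫ g)⁻¹) * (q ≫ h), ?_⟩
    show _ = (Over.pullback σ).map
      (sgn b (fst (X j) (wordSrc X l) ≫ f j) * (snd (X j) (wordSrc X l) ≫ word f l))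
    rw [MonObj.mul_comp, Category.assoc, hh, Functor.map_mul, Functor.map_comp]
    congr 1
    cases b <;> simp [sgn, GrpObj.inv_comp, hg, p]

set_option maxHeartbeats 1600000 in
/-- The base change of the generated subgroup lies in every immersed subgroup through which the base changed
generators factor. -/
theorem gen_bc_le {H : Over S} [GrpObj H] (i : H ⟶ Red.bc σ G) [IsMonHom i] [IsImmersion i.left]
    (hf : ∀ j, ∃ g, g ≫ i = (Over.pullback σ).map (f j)) :
    ∃ g : Red.bc σ (gen f) ⟶ H, g ≫ i = (Over.pullback σ).map (genι f) := by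
  obtain ⟨instg, hιg⟩ := exists_grpObj_gen f
  letI := instg
  haveI := hιg
  let F := Over.pullback σ
  let ιS := F.map (genι f)
  let p := pullback.fst ιS.left i.left
  haveI : IsImmersion p := inferInstance
  let ψ : ∀ l, F.obj (wordSrc X l) ⟶ Red.bc σ (gen f) := fun l => F.map (wordLift f l)
  have hdom : Dominant fun l => (ψ l).left := by
    have H₀ : IsPullback (pullback.fst (gen f).hom σ) (pullback.snd (gen f).hom σ) (gen f).hom σ :=
      IsPullback.of_hasPullback _ _
    refine H06Sep.dominant_field (gen f).hom H₀ (g' := fun l => pullback.fst (wordSrc X l).hom σ)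
      (fun l => ?_) (dominant_wordLift f)
    refine H06Sep.isPullback_member H₀ (r := pullback.snd (wordSrc X l).hom σ) ?_ ?_ ?_
    · rw [Over.w (wordLift f l)]
      exact IsPullback.of_hasPullback _ _
    · simp [ψ, F]
    · simp [ψ, F]
  have hfac : ∀ l, ∃ g, g ≫ p = (ψ l).left := fun l => by
    obtain ⟨h, hh⟩ := map_word_factor σ f i hf l
    refine ⟨pullback.lift (ψ l).left h.left ?_, pullback.lift_fst _ _ _⟩
    rw [← Over.comp_left, ← Over.comp_left, hh]
    show (F.map (wordLift f l) ≫ F.map (genι f)).left = _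
    rw [← F.map_comp, wordLift_ι]
  let U := p.coborderRange
  have hU : ∀ l, Set.range (ψ l).left ⊆ (U : Set _) := fun l => by
    obtain ⟨g, hg⟩ := hfac l
    rw [← hg, Scheme.Hom.comp_base, TopCat.coe_comp, ← p.liftCoborder_ι]
    rintro _ ⟨x, rfl⟩
    exact (U.range_ι).le ⟨_, rfl⟩
  haveI hiso : IsIso p.liftCoborder := by
    have hdomU := dominant_lift hdom U (fun l => IsOpenImmersion.lift U.ι (ψ l).left (by rw [U.range_ι]; exact hU l))
      fun l => IsOpenImmersion.lift_fac _ _ _
    exact isIso_of_dominant hdomU p.liftCoborder fun l => by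
      obtain ⟨g, hg⟩ := hfac l
      refine ⟨g, ?_⟩
      rw [← cancel_mono U.ι, Category.assoc, p.liftCoborder_ι, hg, IsOpenImmersion.lift_fac]
  haveI : IsOpenImmersion p := by rw [← p.liftCoborder_ι]; infer_instance
  haveI : Surjective p := by
    refine ⟨fun x => ?_⟩
    let K := pt (Red.bc σ (gen f)) x
    let T := (Over.map σ).obj K
    let ξ : T ⟶ gen f := Over.homMk ((ptι (Red.bc σ (gen f)) x).left ≫ pullback.fst (gen f).hom σ) (by
      show _ ≫ (gen f).hom = K.hom ≫ σ
      rw [Category.assoc, pullback.condition, ← Category.assoc]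
      exact congrArg (· ≫ σ) (Over.w (ptι (Red.bc σ (gen f)) x)))
    let j : (gen f ⊗ T).left ⟶ (Red.bc σ (gen f)).left :=
      pullback.lift (pullback.fst (gen f).hom T.hom) (pullback.snd (gen f).hom T.hom ≫ K.hom) (by
        rw [pullback.condition, Category.assoc]; rfl)
    have hV : Dense ((j ⁻¹ᵁ U : (gen f ⊗ T).left.Opens) : Set (gen f ⊗ T).left) := by
      refine (dense_of_dominant (dominant_tensor (dominant_wordLift f) T)).mono (Set.iUnion_subset fun l => ?_)
      rintro _ ⟨w, rfl⟩
      have e : (wordLift f l ▷ T).left ≫ j = pullback.lift (pullback.fst (wordSrc X l).hom T.hom)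
          (pullback.snd (wordSrc X l).hom T.hom ≫ K.hom) (by rw [pullback.condition, Category.assoc]; rfl) ≫
          (ψ l).left := by
        apply pullback.hom_ext <;> simp [j, ψ, F]
      show j ((wordLift f l ▷ T).left w) ∈ U
      rw [← Scheme.Hom.comp_apply, e]
      exact hU l ⟨_, rfl⟩
    obtain ⟨z, hz, hz'⟩ := exists_mul_mem ξ (IsLocalRing.closedPoint _ : T.left) (j ⁻¹ᵁ U) hV
    let Z := pt (gen f ⊗ T) z
    let q : Z ⟶ T := ptι (gen f ⊗ T) z ≫ snd (gen f) T
    let Zs : Over S := Over.mk (q.left ≫ K.hom)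
    let qk : (Over.map σ).obj Zs ⟶ T := Over.homMk q.left (by
      show q.left ≫ K.hom ≫ σ = (q.left ≫ K.hom) ≫ σ
      rw [Category.assoc])
    let u : (Over.map σ).obj Zs ⟶ gen f := Over.homMk (ptι (gen f ⊗ T) z ≫ fst (gen f) T).left (by
      show _ = (q.left ≫ K.hom) ≫ σ
      rw [Over.w (ptι (gen f ⊗ T) z ≫ fst (gen f) T), ← Over.w q, Category.assoc]
      rfl)
    have hp : Set.range p = (U : Set _) := by
      rw [← p.liftCoborder_ι, Scheme.Hom.comp_base, TopCat.coe_comp, Set.range_comp,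
        Set.range_eq_univ.mpr p.liftCoborder.surjective, Set.image_univ]
      exact U.range_ι
    have hfacU : ∀ g : Zs ⟶ Red.bc σ (gen f), Set.range g.left ⊆ (U : Set _) →
        ∃ h : Zs ⟶ H, h ≫ i = g ≫ ιS := fun g hg => by
      let g' := IsOpenImmersion.lift p g.left (by rw [hp]; exact hg)
      have hg' : g' ≫ p = g.left := IsOpenImmersion.lift_fac _ _ _
      have e : (g' ≫ pullback.snd ιS.left i.left) ≫ i.left = (g ≫ ιS).left := by
        rw [Category.assoc, ← pullback.condition, reassoc_of% hg', Over.comp_left]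
      exact ⟨Over.homMk _ (by rw [← Over.w i, ← Category.assoc, e, Over.w]), Over.OverMorphism.ext e⟩
    obtain ⟨h₁, hh₁⟩ := hfacU (pull σ u) (by
      rintro _ ⟨w, rfl⟩
      have e : (pull σ u).left = (ptι (gen f ⊗ T) z).left ≫ j := by
        apply pullback.hom_ext <;> simp [pull, j, u, Zs, q, Z, pt]
      rw [e, Scheme.Hom.comp_apply]
      have hw : (ptι (gen f ⊗ T) z).left w ∈ j ⁻¹ᵁ U := by
        have h0 := (range_ptι (gen f ⊗ T) z).le ⟨w, rfl⟩
        exact (Set.mem_singleton_iff.mp h0).symm ▸ hz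
      exact hw)
    obtain ⟨h₂, hh₂⟩ := hfacU (pull σ (u * (qk ≫ ξ))) (by
      rintro _ ⟨w, rfl⟩
      have hu : u.left = (ptι (gen f ⊗ T) z ≫ fst (gen f) T).left := rfl
      have em : (u * (qk ≫ ξ)).left =
          (ptι (gen f ⊗ T) z ≫ (fst (gen f) T * (snd (gen f) T ≫ ξ))).left := by
        rw [MonObj.comp_mul]
        rfl
      have e : (pull σ (u * (qk ≫ ξ))).left = (ptι (gen f ⊗ T) z ≫
          lift (fst (gen f) T * (snd (gen f) T ≫ ξ)) (snd (gen f) T)).left ≫ j := by
        apply pullback.hom_ext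
        · refine (pull_fst σ _).trans (em.trans ?_)
          rw [Category.assoc, pullback.lift_fst, ← lift_fst (fst (gen f) T * (snd (gen f) T ≫ ξ)) (snd (gen f) T),
            ← Category.assoc, Over.comp_left, lift_fst]
          rfl
        · refine (pull_snd σ _).trans ?_
          show (ptι (gen f ⊗ T) z ≫ snd (gen f) T).left ≫ K.hom = _
          rw [Category.assoc, pullback.lift_snd, ← lift_snd (fst (gen f) T * (snd (gen f) T ≫ ξ)) (snd (gen f) T),
            ← Category.assoc, Over.comp_left, lift_snd]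
          rfl
      rw [e, Scheme.Hom.comp_apply]
      exact hz' ⟨w, rfl⟩)
    have key : pull σ (qk ≫ ξ) ≫ ιS = (h₁⁻¹ * h₂) ≫ i := by
      rw [MonObj.mul_comp, GrpObj.inv_comp, hh₁, hh₂, ← GrpObj.inv_comp, ← MonObj.mul_comp,
        ← pull_inv, ← pull_mul, inv_mul_cancel_left]
    have e2 : (pull σ (qk ≫ ξ)).left = q.left ≫ (ptι (Red.bc σ (gen f)) x).left := by
      apply pullback.hom_ext
      · simp [pull, ξ, qk]
      · show _ = (q.left ≫ (ptι (Red.bc σ (gen f)) x).left) ≫ (Red.bc σ (gen f)).hom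
        rw [Category.assoc, Over.w (ptι (Red.bc σ (gen f)) x)]
        simp [pull, Zs]
        rfl
    obtain ⟨w⟩ : Nonempty Z.left := ⟨IsLocalRing.closedPoint _⟩
    refine ⟨(pullback.lift (f := ιS.left) (g := i.left) (pull σ (qk ≫ ξ)).left (h₁⁻¹ * h₂).left
      (congrArg Over.Hom.left key) : Zs.left ⟶ pullback ιS.left i.left) w, ?_⟩
    rw [← Scheme.Hom.comp_apply, pullback.lift_fst, e2, Scheme.Hom.comp_apply]
    exact (range_ptι (Red.bc σ (gen f)) x).le ⟨_, rfl⟩
  haveI : Epi p.base := (TopCat.epi_iff_surjective _).mpr p.surjective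
  haveI : IsIso p := IsOpenImmersion.isIso _
  refine ⟨Over.homMk (inv p ≫ pullback.snd ιS.left i.left) ?_, ?_⟩
  · rw [← Over.w i, Category.assoc, ← pullback.condition_assoc, IsIso.inv_hom_id_assoc, Over.w ιS]
  · apply Over.OverMorphism.ext
    show (inv p ≫ pullback.snd ιS.left i.left) ≫ i.left = ιS.left
    rw [Category.assoc, ← pullback.condition, IsIso.inv_hom_id_assoc]

end Pull

end Groth.Agent.H06GenSub
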