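import Mathlib
import Groth.Agent.H06GenSub.BaseChange

/-!
Dense subsets of the generated subgroup which contain enough points are everything.
-/

set_option autoImplicit false
set_option linter.style.haveILetI false
set_option linter.unusedSectionVars false
set_option backward.isDefEq.respectTransparency false

universe u

open CategoryTheory CategoryTheory.Limits MonoidalCategory CartesianMonoidalCategory MonObj GrpObj
  AlgebraicGeometry

namespace Groth.Agent.H06GenSub

open Groth.Agent.H06Sep (Dominant)

/-- The frontier of a constructible set is nowhere dense. -/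
theorem interior_frontier_of_isConstructible {X : Type*} [TopologicalSpace X] {s : Set X}
    (hs : Topology.IsConstructible s) : interior (frontier s) = ∅ := by
  induction hs using Topology.IsConstructible.empty_union_induction with
  | open_retrocompact U hU _ => rw [← frontier_compl]; exact interior_frontier hU.isClosed_compl
  | union s _ t _ hs ht =>
    refine Set.subset_eq_empty (interior_mono ((frontier_union_subset s t).trans
      (Set.union_subset_union Set.inter_subset_left Set.inter_subset_right))) ?_
    rw [interior_union_isClosed_of_interior_empty isClosed_frontier ht, hs]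
  | compl s _ hs => rwa [frontier_compl]

/-- A dense locally constructible set contains a dense open set. -/
theorem dense_interior_of_isLocallyConstructible {X : Type*} [TopologicalSpace X] {s : Set X}
    (hs : Topology.IsLocallyConstructible s) (hd : Dense s) : Dense (interior s) := by
  have hf : interior (frontier s) = ∅ := by
    by_contra hne
    obtain ⟨x, hx⟩ := Set.nonempty_iff_ne_empty.mpr hne
    obtain ⟨U, hU, hUo, hUc⟩ := hs x
    have h1 := interior_frontier_of_isConstructible hUc
    rw [show frontier (Subtype.val ⁻¹' s : Set U) = Subtype.val ⁻¹' frontier s from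
      (hUo.isOpenMap_subtype_val.preimage_frontier_eq_frontier_preimage continuous_subtype_val s).symm] at h1
    have h2 : (⟨x, mem_of_mem_nhds hU⟩ : U) ∈ interior (Subtype.val ⁻¹' frontier s) :=
      preimage_interior_subset_interior_preimage continuous_subtype_val hx
    rw [h1] at h2
    exact h2
  have he : interior s = (frontier s)ᶜ := by
    rw [frontier, hd.closure_eq, ← Set.compl_eq_univ_sdiff, compl_compl]
  rw [he]
  exact interior_eq_empty_iff_dense_compl.mp hf

/-- A point of a group over a field factors, over an extension, through a morphism with that point in its image. -/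
theorem exists_lift_point {S : Scheme.{u}} {G T W : Over S} (g : T ⟶ G) (t : T.left) (h : W ⟶ G)
    (ht : g.left t ∈ Set.range h.left) :
    ∃ (T' : Over S) (q : T' ⟶ T) (t' : T'.left) (v : T' ⟶ W), q.left t' = t ∧ v ≫ h = q ≫ g := by
  obtain ⟨w, hw⟩ := ht
  obtain ⟨t', ht', -⟩ := Scheme.Pullback.exists_preimage_pullback (f := g.left) (g := h.left) t w hw.symm
  refine ⟨Over.mk (pullback.fst g.left h.left ≫ T.hom), Over.homMk (pullback.fst g.left h.left) rfl, t',
    Over.homMk (pullback.snd g.left h.left) ?_, ht', Over.OverMorphism.ext pullback.condition.symm⟩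
  show _ = pullback.fst g.left h.left ≫ T.hom
  rw [← Over.w g, ← Over.w h, pullback.condition_assoc]

variable {k : Type u} [Field k]

/-- Every point of a reduced group is, over an extension, a quotient of two points in a given dense open. -/
theorem exists_eq_inv_mul {Γ : Over (Spec (CommRingCat.of k))} [GrpObj Γ] [IsReduced Γ.left]
    (U : Γ.left.Opens) (hU : Dense (U : Set Γ.left)) (x : Γ.left) :
    ∃ (Z : Over (Spec (CommRingCat.of k))) (z : Z.left) (u v : Z ⟶ Γ),
      u.left z ∈ U ∧ v.left z ∈ U ∧ (u⁻¹ * v).left z = x := by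
  let T := pt Γ x
  let ξ := ptι Γ x
  let W : PUnit.{u+1} → Over (Spec (CommRingCat.of k)) := fun _ => Over.mk (U.ι ≫ Γ.hom)
  let φ : ∀ i, W i ⟶ Γ := fun _ => Over.homMk U.ι rfl
  have hdom : Dominant fun i => (φ i).left := by
    refine dominant_of_dense (hU.mono fun y hy => Set.mem_iUnion.mpr ⟨PUnit.unit, ?_⟩)
    exact U.range_ι.ge hy
  have hV : Dense (((fst Γ T).left ⁻¹ᵁ U : (Γ ⊗ T).left.Opens) : Set (Γ ⊗ T).left) := by
    refine (dense_of_dominant (dominant_tensor hdom T)).mono (Set.iUnion_subset fun i => ?_)
    rintro _ ⟨w, rfl⟩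
    show (fst Γ T).left ((φ i ▷ T).left w) ∈ U
    rw [← Scheme.Hom.comp_apply, ← Over.comp_left, whiskerRight_fst, Over.comp_left, Scheme.Hom.comp_apply]
    exact U.range_ι.le ⟨_, rfl⟩
  obtain ⟨z, hz, hz'⟩ := exists_mul_mem ξ (IsLocalRing.closedPoint _ : T.left) _ hV
  let Z := pt (Γ ⊗ T) z
  let e : Z ⟶ Γ ⊗ T := ptι (Γ ⊗ T) z
  let z₀ : Z.left := IsLocalRing.closedPoint _
  have hz₀ : e.left z₀ = z := (range_ptι (Γ ⊗ T) z).le ⟨z₀, rfl⟩
  refine ⟨Z, z₀, e ≫ fst Γ T, e ≫ (fst Γ T * (snd Γ T ≫ ξ)), ?_, ?_, ?_⟩
  · rw [Over.comp_left, Scheme.Hom.comp_apply, hz₀]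
    exact hz
  · have h := hz' ⟨z₀, rfl⟩
    have e2 : e ≫ (fst Γ T * (snd Γ T ≫ ξ)) =
        (ptι (Γ ⊗ T) z ≫ lift (fst Γ T * (snd Γ T ≫ ξ)) (snd Γ T)) ≫ fst Γ T := by
      rw [Category.assoc, lift_fst]
    rw [e2, Over.comp_left, Scheme.Hom.comp_apply]
    exact h
  · rw [MonObj.comp_mul e, inv_mul_cancel_left, Over.comp_left, Scheme.Hom.comp_apply, Over.comp_left]
    exact (range_ptι Γ x).le ⟨_, rfl⟩

end Groth.Agent.H06GenSub
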