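import Mathlib
import Groth.Agent.H06GenSub.Points

/-!
Words of a fixed length in a single morphism.
-/

set_option autoImplicit false
set_option linter.style.haveILetI false
set_option linter.unusedSectionVars false
set_option backward.isDefEq.respectTransparency false

universe u

open CategoryTheory CategoryTheory.Limits MonoidalCategory CartesianMonoidalCategory MonObj GrpObj
  AlgebraicGeometry

namespace Groth.Agent.H06GenSub

variable {S : Scheme.{u}} {G X : Over S} [GrpObj G] (f : X ⟶ G)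

/-- The product of a list of signed points. -/
noncomputable def lprod {T : Over S} (L : List (Bool × (T ⟶ X))) : T ⟶ G :=
  (L.map fun p => sgn p.1 (p.2 ≫ f)).prod

/-- The points lying under words of a given length. -/
def lenSet (n : ℕ) : Set G.left :=
  {g | ∃ (T : Over S) (t : T.left) (L : List (Bool × (T ⟶ X))), L.length = n ∧ (lprod f L).left t = g}

/-- The single letter family. -/
def single : PUnit.{u+1} → (X ⟶ G) := fun _ => f

variable {f}

theorem comp_lprod {T T' : Over S} (q : T' ⟶ T) (L : List (Bool × (T ⟶ X))) :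
    q ≫ lprod f L = lprod f (L.map fun p => (p.1, q ≫ p.2)) := by
  induction L with
  | nil => exact MonObj.comp_one q
  | cons a L ih =>
    rw [List.map_cons, lprod, lprod, List.map_cons, List.map_cons, List.prod_cons, List.prod_cons,
      MonObj.comp_mul, comp_sgn, Category.assoc]
    exact congrArg _ ih

theorem lprod_append {T : Over S} (L L' : List (Bool × (T ⟶ X))) :
    lprod f (L ++ L') = lprod f L * lprod f L' := by
  rw [lprod, lprod, lprod, List.map_append, List.prod_append]

theorem lprod_inv {T : Over S} (L : List (Bool × (T ⟶ X))) :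
    (lprod f L)⁻¹ = lprod f (L.reverse.map fun p => (!p.1, p.2)) := by
  induction L with
  | nil => exact inv_one
  | cons a L ih =>
    rw [List.reverse_cons, List.map_append, lprod_append, ← ih, lprod, lprod, List.map_cons, List.prod_cons,
      _root_.mul_inv_rev, inv_sgn]
    simp [lprod]

/-- A point in a word set lifts to a word. -/
theorem exists_lprod_eq {T : Over S} (g : T ⟶ G) (t : T.left) {n : ℕ} (h : g.left t ∈ lenSet f n) :
    ∃ (T' : Over S) (q : T' ⟶ T) (t' : T'.left) (L : List (Bool × (T' ⟶ X))),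
      q.left t' = t ∧ L.length = n ∧ lprod f L = q ≫ g := by
  obtain ⟨T₁, t₁, L, hL, he⟩ := h
  obtain ⟨T', q, t', v, hq, hv⟩ := exists_lift_point g t (lprod f L) ⟨t₁, he⟩
  exact ⟨T', q, t', L.map fun p => (p.1, v ≫ p.2), hq, by rw [List.length_map, hL], by rw [← comp_lprod, hv]⟩

theorem mem_lenSet_mul {T : Over S} (g h : T ⟶ G) (t : T.left) {m n : ℕ} (hg : g.left t ∈ lenSet f m)
    (hh : h.left t ∈ lenSet f n) : (g * h).left t ∈ lenSet f (m + n) := by
  obtain ⟨T₁, q₁, t₁, L₁, hq₁, hl₁, he₁⟩ := exists_lprod_eq g t hg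
  obtain ⟨T₂, q₂, t₂, L₂, hq₂, hl₂, he₂⟩ := exists_lprod_eq (q₁ ≫ h) t₁ (n := n) (by
    rw [Over.comp_left, Scheme.Hom.comp_apply, hq₁]; exact hh)
  refine ⟨T₂, t₂, (L₁.map fun p => (p.1, q₂ ≫ p.2)) ++ L₂, by simp [hl₁, hl₂], ?_⟩
  rw [lprod_append, ← comp_lprod, he₁, he₂, ← MonObj.comp_mul, ← MonObj.comp_mul, Over.comp_left,
    Scheme.Hom.comp_apply, hq₂, Over.comp_left, Scheme.Hom.comp_apply, hq₁]

theorem mem_lenSet_inv {T : Over S} (g : T ⟶ G) (t : T.left) {n : ℕ} (hg : g.left t ∈ lenSet f n) :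
    g⁻¹.left t ∈ lenSet f n := by
  obtain ⟨T₁, q₁, t₁, L₁, hq₁, hl₁, he₁⟩ := exists_lprod_eq g t hg
  refine ⟨T₁, t₁, L₁.reverse.map fun p => (!p.1, p.2), by simp [hl₁], ?_⟩
  rw [← lprod_inv, he₁, ← GrpObj.comp_inv, Over.comp_left, Scheme.Hom.comp_apply, hq₁]

/-- Word sets increase once the unit is in the image. -/
theorem lenSet_mono (he : ∀ (T : Over S) (t : T.left), (1 : T ⟶ G).left t ∈ Set.range f.left) {m n : ℕ}
    (h : m ≤ n) : lenSet f m ⊆ lenSet f n := by
  induction h with
  | refl => exact subset_rfl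
  | @step n _ ih =>
    refine ih.trans ?_
    rintro _ ⟨T, t, L, hL, rfl⟩
    have h1 : (1 : T ⟶ G).left t ∈ lenSet f 1 := by
      obtain ⟨T', q, t', v, hq, hv⟩ := exists_lift_point (1 : T ⟶ G) t f (he T t)
      refine ⟨T', t', [(true, v)], rfl, ?_⟩
      simp only [lprod, sgn, List.map_cons, List.map_nil, List.prod_cons, List.prod_nil, if_true, _root_.mul_one]
      rw [hv, Over.comp_left, Scheme.Hom.comp_apply, hq]
    have := mem_lenSet_mul (lprod f L) 1 t (m := n) ⟨T, t, L, hL, rfl⟩ h1
    rwa [_root_.mul_one] at this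

theorem lprod_isWord {T : Over S} (L : List (Bool × (T ⟶ X))) :
    IsWord (X := fun _ : PUnit.{u+1} => X) (single f) (lprod f L) := by
  induction L with
  | nil => exact isWord_one
  | cons a L ih =>
    exact isWord_cons (f := single f) (j := PUnit.unit) a.1 a.2 ih

theorem wordSet_single : wordSet (X := fun _ : PUnit.{u+1} => X) (single f) = ⋃ n, lenSet f n := by
  refine Set.Subset.antisymm (Set.iUnion_subset fun l => ?_) (Set.iUnion_subset fun n => ?_)
  · have key : ∀ (l : List (PUnit.{u+1} × Bool)) (T : Over S) (v : T ⟶ wordSrc (fun _ : PUnit.{u+1} => X) l),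
        ∃ L : List (Bool × (T ⟶ X)), lprod f L = v ≫ word (single f) l := by
      intro l
      induction l with
      | nil => exact fun T v => ⟨[], (MonObj.comp_one v).symm⟩
      | cons a l ih =>
        intro T v
        obtain ⟨L, hL⟩ := ih T (v ≫ snd _ _)
        refine ⟨(a.2, v ≫ fst _ _) :: L, ?_⟩
        rw [comp_word_cons (single f) a l v, ← hL]
        rfl
    rintro _ ⟨t, rfl⟩
    obtain ⟨L, hL⟩ := key l _ (𝟙 _)
    exact Set.mem_iUnion.mpr ⟨L.length, _, t, L, rfl, by rw [hL, Category.id_comp]⟩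
  · rintro _ ⟨T, t, L, -, rfl⟩
    exact range_subset_wordSet (lprod_isWord L) ⟨t, rfl⟩

/-- Word sets are finite unions of images of word maps. -/
theorem lenSet_eq_iUnion (n : ℕ) : lenSet f n =
    ⋃ ε : Fin n → Bool, Set.range (word (X := fun _ : PUnit.{u+1} => X) (single f)
      (List.ofFn fun j => (PUnit.unit, ε j))).left := by
  refine Set.Subset.antisymm ?_ (Set.iUnion_subset fun ε => ?_)
  · rintro _ ⟨T, t, L, rfl, rfl⟩
    have key : ∀ L : List (Bool × (T ⟶ X)), ∃ v : T ⟶ wordSrc (fun _ : PUnit.{u+1} => X)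
        (L.map fun p => (PUnit.unit, p.1)), v ≫ word (single f) _ = lprod f L := by
      intro L
      induction L with
      | nil => exact ⟨toUnit T, MonObj.comp_one _⟩
      | cons a L ih =>
        obtain ⟨v, hv⟩ := ih
        refine ⟨lift a.2 v, ?_⟩
        show lift a.2 v ≫ (sgn a.1 (fst X _ ≫ f) * (snd X _ ≫ word (single f) _)) = _
        rw [MonObj.comp_mul, comp_sgn, lift_fst_assoc, lift_snd_assoc, hv]
        rfl
    obtain ⟨v, hv⟩ := key L
    have e : L.map (fun p => (PUnit.unit, p.1)) = List.ofFn fun j => (PUnit.unit, (L.get j).1) := by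
      conv_lhs => rw [← List.ofFn_get L, List.map_ofFn]
      rfl
    refine Set.mem_iUnion.mpr ⟨fun j => (L.get j).1, ?_⟩
    rw [← e, ← hv, Over.comp_left, Scheme.Hom.comp_apply]
    exact ⟨_, rfl⟩
  · have key : ∀ (l : List (PUnit.{u+1} × Bool)) (T : Over S)
        (v : T ⟶ wordSrc (fun _ : PUnit.{u+1} => X) l),
        ∃ L : List (Bool × (T ⟶ X)), L.length = l.length ∧ lprod f L = v ≫ word (single f) l := by
      intro l
      induction l with
      | nil => exact fun T v => ⟨[], rfl, (MonObj.comp_one v).symm⟩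
      | cons a l ih =>
        intro T v
        obtain ⟨L, hl, hL⟩ := ih T (v ≫ snd _ _)
        refine ⟨(a.2, v ≫ fst _ _) :: L, by simp [hl], ?_⟩
        rw [comp_word_cons (single f) a l v, ← hL]
        rfl
    rintro _ ⟨t, rfl⟩
    obtain ⟨L, hl, hL⟩ := key _ _ (𝟙 _)
    exact ⟨_, t, L, by rw [hl, List.length_ofFn], by rw [hL, Category.id_comp]⟩

/-- The statement form of word sets. -/
theorem lenSet_eq (n : ℕ) : lenSet f n =
    {g : G.left | ∃ (T : Over S) (p : T.left) (x : Fin n → (T ⟶ X)) (ε : Fin n → Bool),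
      ((List.ofFn fun j : Fin n => if ε j then x j ≫ f else (x j ≫ f)⁻¹).prod : T ⟶ G).left p = g} := by
  ext g
  constructor
  · rintro ⟨T, t, L, rfl, rfl⟩
    refine ⟨T, t, fun j => (L.get j).2, fun j => (L.get j).1, ?_⟩
    rw [lprod]
    conv_rhs => rw [← List.ofFn_get L, List.map_ofFn]
    rfl
  · rintro ⟨T, p, x, ε, rfl⟩
    refine ⟨T, p, List.ofFn fun j => (ε j, x j), List.length_ofFn, ?_⟩
    rw [lprod, List.map_ofFn]
    rfl

end Groth.Agent.H06GenSub
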