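import Mathlib

/-!
The commutator of two normal subgroups with finitely many commutators is finite, when a power of each element
of the second commutes with the first.
-/

set_option autoImplicit false
set_option linter.style.haveILetI false
set_option linter.unusedSectionVars false

open scoped commutatorElement

namespace Groth.Agent.H06GenSub.Baer

variable {M : Type*} [Group M]

/-- A set of pairwise commuting elements of finite order generates a finite group, if finite. -/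
theorem finite_closure_of_isOfFinOrder (S : Set M) (hS : S.Finite) (hc : ∀ a ∈ S, ∀ b ∈ S, a * b = b * a)
    (ht : ∀ a ∈ S, IsOfFinOrder a) : Finite (Subgroup.closure S) := by
  haveI : IsMulCommutative (Subgroup.closure S) := Subgroup.isMulCommutative_closure hc
  letI : CommGroup (Subgroup.closure S) := { mul_comm := fun a b => IsMulCommutative.is_comm.comm a b }
  haveI : Group.FG (Subgroup.closure S) :=
    (Group.fg_iff_subgroup_fg _).mpr ((Subgroup.fg_iff _).mpr ⟨S, rfl, hS⟩)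
  refine CommGroup.finite_of_fg_isMulTorsion _ fun x => ?_
  rw [← Submonoid.isOfFinOrder_coe]
  obtain ⟨x, hx⟩ := x
  show IsOfFinOrder x
  induction hx using Subgroup.closure_induction with
  | mem y hy => exact ht y hy
  | one => exact IsOfFinOrder.one
  | mul y z hy hz hy' hz' =>
    have h : y * z = z * y :=
      congrArg Subtype.val (IsMulCommutative.is_comm.comm (⟨y, hy⟩ : Subgroup.closure S) ⟨z, hz⟩)
    exact Commute.isOfFinOrder_mul h hy' hz'
  | inv y _ hy => exact hy.inv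

/-- The commutators of two subgroups. -/
def comms (P Q : Subgroup M) : Set M := {g | ∃ x ∈ P, ∃ y ∈ Q, ⁅x, y⁆ = g}

theorem commutator_eq_closure_comms (P Q : Subgroup M) : ⁅P, Q⁆ = Subgroup.closure (comms P Q) := rfl

/-- The case where the commutator subgroup is abelian. -/
theorem finite_commutator_of_comm (P Q : Subgroup M) [P.Normal] [Q.Normal] (hS : (comms P Q).Finite)
    (hpow : ∀ y ∈ Q, ∃ m : ℕ, 0 < m ∧ ∀ x ∈ P, ⁅x, y ^ m⁆ = 1)
    (hD : ∀ a ∈ ⁅P, Q⁆, ∀ b ∈ ⁅P, Q⁆, a * b = b * a) : Finite (⁅P, Q⁆ : Subgroup M) := by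
  have hDP : ⁅P, Q⁆ ≤ P := Subgroup.commutator_le_left P Q
  have hsub : ∀ x ∈ comms P Q, x ∈ ⁅P, Q⁆ := fun x hx => Subgroup.subset_closure hx
  let SE : Set M := {g | ∃ d ∈ ⁅P, Q⁆, ∃ y ∈ Q, ⁅d, y⁆ = g}
  have hSE : SE ⊆ comms P Q := fun g ⟨d, hd, y, hy, h⟩ => ⟨d, hDP hd, y, hy, h⟩
  have hpowD : ∀ d ∈ ⁅P, Q⁆, ∀ y ∈ Q, ∀ n : ℕ, ⁅d ^ n, y⁆ = ⁅d, y⁆ ^ n := by
    intro d hd y hy n
    induction n with
    | zero => simp
    | succ n ih =>
      have h1 : ⁅d, y⁆ ∈ ⁅P, Q⁆ := hsub _ (hSE ⟨d, hd, y, hy, rfl⟩)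
      have h2 : d ^ n * ⁅d, y⁆ = ⁅d, y⁆ * d ^ n := hD _ (pow_mem hd n) _ h1
      calc ⁅d ^ (n + 1), y⁆ = d ^ n * ⁅d, y⁆ * (d ^ n)⁻¹ * ⁅d ^ n, y⁆ := by
            simp only [commutatorElement_def, pow_succ]; group
        _ = ⁅d, y⁆ * ⁅d, y⁆ ^ n := by rw [h2, mul_inv_cancel_right, ih]
        _ = ⁅d, y⁆ ^ (n + 1) := (pow_succ' _ _).symm
  have htE : ∀ g ∈ SE, IsOfFinOrder g := by
    rintro g ⟨d, hd, y, hy, rfl⟩
    refine finite_powers.mp (hS.subset ?_)
    rintro _ ⟨n, rfl⟩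
    exact hSE ⟨d ^ n, pow_mem hd n, y, hy, hpowD d hd y hy n⟩
  haveI hE : Finite (Subgroup.closure SE) := finite_closure_of_isOfFinOrder SE (hS.subset hSE)
    (fun a ha b hb => hD a (hsub _ (hSE ha)) b (hsub _ (hSE hb))) htE
  refine finite_closure_of_isOfFinOrder (comms P Q) hS (fun a ha b hb => hD a (hsub _ ha) b (hsub _ hb)) ?_
  rintro g ⟨x, hx, y, hy, rfl⟩
  have hd : ⁅x, y⁆ ∈ ⁅P, Q⁆ := hsub _ ⟨x, hx, y, hy, rfl⟩
  have key : ∀ n : ℕ, ∃ e ∈ Subgroup.closure SE, ⁅x, y ^ n⁆ = ⁅x, y⁆ ^ n * e := by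
    intro n
    induction n with
    | zero => exact ⟨1, one_mem _, by simp⟩
    | succ n ih =>
      obtain ⟨e, he, h⟩ := ih
      have hn : ⁅x, y ^ n⁆ ∈ ⁅P, Q⁆ := hsub _ ⟨x, hx, y ^ n, pow_mem hy n, rfl⟩
      refine ⟨e * ⁅(⁅x, y ^ n⁆)⁻¹, y⁆,
        mul_mem he (Subgroup.subset_closure ⟨_, inv_mem hn, y, hy, rfl⟩), ?_⟩
      calc ⁅x, y ^ (n + 1)⁆ = ⁅x, y⁆ * (⁅x, y ^ n⁆ * ⁅(⁅x, y ^ n⁆)⁻¹, y⁆) := by
            simp only [commutatorElement_def, pow_succ']; group
        _ = ⁅x, y⁆ ^ (n + 1) * (e * ⁅(⁅x, y ^ n⁆)⁻¹, y⁆) := by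
            generalize ⁅(⁅x, y ^ n⁆)⁻¹, y⁆ = f
            rw [h, pow_succ']
            group
  obtain ⟨m, hm, hxm⟩ := hpow y hy
  obtain ⟨e, he, h⟩ := key m
  rw [hxm x hx] at h
  have h' : ⁅x, y⁆ ^ m ∈ Subgroup.closure SE := by
    rw [eq_inv_of_mul_eq_one_left h.symm]; exact inv_mem he
  refine IsOfFinOrder.of_pow (n := m) ?_ hm.ne'
  exact MonoidHom.isOfFinOrder (Subgroup.closure SE).subtype (isOfFinOrder_of_finite (⟨_, h'⟩ : Subgroup.closure SE))

/-- Finitely many commutators and commuting powers give a finite commutator subgroup. -/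
theorem finite_commutator (P Q : Subgroup M) [P.Normal] [Q.Normal] (hS : (comms P Q).Finite)
    (hpow : ∀ y ∈ Q, ∃ m : ℕ, 0 < m ∧ ∀ x ∈ P, ⁅x, y ^ m⁆ = 1) : Finite (⁅P, Q⁆ : Subgroup M) := by
  let D := ⁅P, Q⁆
  haveI : Finite (commutatorSet D) := by
    refine Set.Finite.to_subtype (Set.Finite.of_finite_image (hS.subset ?_) Subtype.val_injective.injOn)
    rintro _ ⟨_, ⟨⟨a, ha⟩, ⟨b, hb⟩, rfl⟩, rfl⟩
    exact ⟨a, Subgroup.commutator_le_left P Q ha, b, Subgroup.commutator_le_right P Q hb, rfl⟩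
  let K : Subgroup M := ⁅D, D⁆
  haveI : Finite K := by
    show Finite (⁅D, D⁆ : Subgroup M)
    rw [← Subgroup.map_subtype_commutator]
    haveI : Finite (_root_.commutator D) := inferInstance
    exact Finite.of_equiv _ (Subgroup.equivMapOfInjective (_root_.commutator D) D.subtype D.subtype_injective).toEquiv
  haveI : K.Normal := Subgroup.commutator_normal D D
  let π := QuotientGroup.mk' K
  haveI hP : (P.map π).Normal := Subgroup.Normal.map inferInstance π (QuotientGroup.mk'_surjective K)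
  haveI hQ : (Q.map π).Normal := Subgroup.Normal.map inferInstance π (QuotientGroup.mk'_surjective K)
  have hmap : D.map π = ⁅P.map π, Q.map π⁆ := Subgroup.map_commutator P Q π
  haveI : Finite (⁅P.map π, Q.map π⁆ : Subgroup (M ⧸ K)) := by
    refine finite_commutator_of_comm _ _ ((hS.image π).subset ?_) ?_ ?_
    · rintro _ ⟨_, ⟨x, hx, rfl⟩, _, ⟨y, hy, rfl⟩, rfl⟩
      exact ⟨⁅x, y⁆, ⟨x, hx, y, hy, rfl⟩, map_commutatorElement π x y⟩
    · rintro _ ⟨y, hy, rfl⟩
      obtain ⟨m, hm, h⟩ := hpow y hy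
      refine ⟨m, hm, ?_⟩
      rintro _ ⟨x, hx, rfl⟩
      rw [← map_pow, ← map_commutatorElement, h x hx, map_one]
    · rw [← hmap]
      rintro _ ⟨a, ha, rfl⟩ _ ⟨b, hb, rfl⟩
      have h : π ⁅a, b⁆ = 1 := (QuotientGroup.eq_one_iff _).mpr (Subgroup.commutator_mem_commutator ha hb)
      rwa [map_commutatorElement, commutatorElement_eq_one_iff_mul_comm] at h
  refine Set.Finite.to_subtype (s := (D : Set M)) ?_
  have hfin : (π '' (D : Set M)).Finite := by
    rw [← Subgroup.coe_map, hmap]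
    exact Set.toFinite _
  refine (hfin.biUnion (t := fun q => (fun e => q.out * e) '' (K : Set M))
    fun q _ => (Set.toFinite _).image _).subset fun d hd => ?_
  refine Set.mem_biUnion ⟨d, hd, rfl⟩ ⟨(π d).out⁻¹ * d, ?_, mul_inv_cancel_left _ _⟩
  exact QuotientGroup.eq.mp (QuotientGroup.out_eq' (π d))

end Groth.Agent.H06GenSub.Baer
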