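import Mathlib
import Groth.Agent.H06GenSub.Lists
import Groth.Agent.H19Grp.AlgClosedGeom
import Groth.Agent.H19Grp.IdentityComponent
import Groth.Agent.H3CAlg.PruferFibreDim
import Groth.Agent.H8Props.FieldDimScheme
import Groth.Agent.H17.Reduced
import Groth.Agent.H19Grp.AffineQuotient

/-!
Over an algebraically closed field the words of bounded length in a connected family through the unit are
dense among all words.
-/

set_option autoImplicit false
set_option linter.style.haveILetI false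
set_option linter.unusedSectionVars false
set_option backward.isDefEq.respectTransparency false

universe u

open CategoryTheory CategoryTheory.Limits MonoidalCategory CartesianMonoidalCategory MonObj GrpObj
  AlgebraicGeometry TopologicalSpace

namespace Groth.Agent.H06GenSub.Borel

open Groth.Agent.H8Props.FieldDim (cdim)

variable {k : Type u} [Field k] [IsAlgClosed k] {G X : Over (Spec (CommRingCat.of k))} [GrpObj G]
  [LocallyOfFiniteType G.hom] (f : X ⟶ G)

/-- The point of the unit object. -/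
abbrev pt₀ : (𝟙_ (Over (Spec (CommRingCat.of k)))).left := IsLocalRing.closedPoint k

theorem eq_pt₀ (z : (𝟙_ (Over (Spec (CommRingCat.of k)))).left) : z = pt₀ (k := k) :=
  haveI : Subsingleton (𝟙_ (Over (Spec (CommRingCat.of k)))).left :=
    inferInstanceAs (Subsingleton (Spec (CommRingCat.of k)))
  Subsingleton.elim _ _

/-- Closed points are rational. -/
theorem exists_point {Y : Over (Spec (CommRingCat.of k))} [LocallyOfFiniteType Y.hom] (c : Y.left)
    (hc : IsClosed ({c} : Set Y.left)) : ∃ w : 𝟙_ (Over (Spec (CommRingCat.of k))) ⟶ Y, w.left pt₀ = c :=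
  ⟨Over.homMk (pointOfClosedPoint Y.hom c hc) (pointOfClosedPoint_comp Y.hom c hc),
    congrArg Subtype.val ((pointEquivClosedPoint Y.hom).apply_symm_apply ⟨c, hc⟩)⟩

theorem point_ext {Y : Over (Spec (CommRingCat.of k))} [LocallyOfFiniteType Y.hom]
    (w w' : 𝟙_ (Over (Spec (CommRingCat.of k))) ⟶ Y) (h : w.left pt₀ = w'.left pt₀) : w = w' :=
  Over.OverMorphism.ext (congrArg Subtype.val ((pointEquivClosedPoint Y.hom).injective
    (a₁ := ⟨w.left, Over.w w⟩) (a₂ := ⟨w'.left, Over.w w'⟩) (Subtype.ext h)))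

/-- An irreducible family of words of a fixed length. -/
structure Par where
  /-- The parameter scheme. -/
  W : Over (Spec (CommRingCat.of k))
  irr : IrreducibleSpace W.left
  lft : LocallyOfFiniteType W.hom
  /-- The map. -/
  φ : W ⟶ G
  /-- The length. -/
  n : ℕ
  le : Set.range φ.left ⊆ lenSet f n

attribute [instance] Par.irr Par.lft

variable {f}

/-- The generic point of the image. -/
noncomputable def Par.gp (θ : Par f) : G.left := θ.φ.left (genericPoint θ.W.left)

theorem Par.specializes (θ : Par f) {x : G.left} (hx : x ∈ Set.range θ.φ.left) : θ.gp ⤳ x := by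
  obtain ⟨w, rfl⟩ := hx
  exact (genericPoint_specializes w).map θ.φ.left.continuous

/-- A family is maximal when its generic point has no generization among generic points of families. -/
def Par.IsMax (θ : Par f) : Prop := ∀ ψ : Par f, ψ.gp ⤳ θ.gp → ψ.gp = θ.gp

/-- Right translation by a rational point. -/
noncomputable def R (y : 𝟙_ (Over (Spec (CommRingCat.of k))) ⟶ G) : G ⟶ G := 𝟙 G * (toUnit G ≫ y)

theorem R_comp (y z : 𝟙_ (Over (Spec (CommRingCat.of k))) ⟶ G) : R y ≫ R z = R (y * z) := by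
  simp only [R, MonObj.comp_mul, Category.comp_id, ← Category.assoc,
    Subsingleton.elim ((𝟙 G * toUnit G ≫ y) ≫ toUnit G) (toUnit G), _root_.mul_assoc]

theorem R_one : R (1 : 𝟙_ (Over (Spec (CommRingCat.of k))) ⟶ G) = 𝟙 G := by
  simp only [R, MonObj.comp_one, _root_.mul_one]

theorem comp_R {T : Over (Spec (CommRingCat.of k))} (g : T ⟶ G)
    (y : 𝟙_ (Over (Spec (CommRingCat.of k))) ⟶ G) : g ≫ R y = g * (toUnit T ≫ y) := by
  simp only [R, MonObj.comp_mul, Category.comp_id, ← Category.assoc,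
    Subsingleton.elim (g ≫ toUnit G) (toUnit T)]

theorem R_apply_inv (y : 𝟙_ (Over (Spec (CommRingCat.of k))) ⟶ G) (x : G.left) :
    (R y⁻¹).left ((R y).left x) = x := by
  rw [← Scheme.Hom.comp_apply, ← Over.comp_left, R_comp, mul_inv_cancel, R_one]
  rfl

theorem mem_lenSet_R {y : 𝟙_ (Over (Spec (CommRingCat.of k))) ⟶ G} {m n : ℕ} (hy : y.left pt₀ ∈ lenSet f m)
    {T : Over (Spec (CommRingCat.of k))} (g : T ⟶ G) (t : T.left) (hg : g.left t ∈ lenSet f n) :
    (g ≫ R y).left t ∈ lenSet f (n + m) := by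
  rw [comp_R]
  refine mem_lenSet_mul g _ t hg ?_
  rwa [Over.comp_left, Scheme.Hom.comp_apply, eq_pt₀ ((toUnit T).left t)]

/-- Translates of families. -/
noncomputable def Par.translate (θ : Par f) (y : 𝟙_ (Over (Spec (CommRingCat.of k))) ⟶ G) (m : ℕ)
    (hy : y.left pt₀ ∈ lenSet f m) : Par f where
  W := θ.W
  irr := θ.irr
  lft := θ.lft
  φ := θ.φ ≫ R y
  n := θ.n + m
  le := by
    rintro _ ⟨w, rfl⟩
    exact mem_lenSet_R hy θ.φ w (θ.le ⟨w, rfl⟩)

theorem Par.gp_translate (θ : Par f) (y : 𝟙_ (Over (Spec (CommRingCat.of k))) ⟶ G) (m : ℕ)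
    (hy : y.left pt₀ ∈ lenSet f m) : (θ.translate y m hy).gp = (R y).left θ.gp := by
  show (θ.φ ≫ R y).left (genericPoint θ.W.left) = _
  rw [Over.comp_left, Scheme.Hom.comp_apply]
  rfl

theorem Par.isMax_translate {θ : Par f} (hθ : θ.IsMax) (y : 𝟙_ (Over (Spec (CommRingCat.of k))) ⟶ G) (m : ℕ)
    (hy : y.left pt₀ ∈ lenSet f m) : (θ.translate y m hy).IsMax := by
  intro ψ h
  rw [Par.gp_translate] at h ⊢
  have hy' := mem_lenSet_inv y pt₀ hy
  have h2 := h.map (R y⁻¹).left.continuous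
  rw [R_apply_inv, ← Par.gp_translate ψ y⁻¹ m hy'] at h2
  have h3 := hθ _ h2
  rw [Par.gp_translate] at h3
  have h4 := R_apply_inv y⁻¹ ψ.gp
  rw [_root_.inv_inv, h3] at h4
  exact h4.symm

/-- Inverses of families. -/
noncomputable def Par.inv (θ : Par f) : Par f where
  W := θ.W
  irr := θ.irr
  lft := θ.lft
  φ := θ.φ⁻¹
  n := θ.n
  le := by
    rintro _ ⟨w, rfl⟩
    exact mem_lenSet_inv θ.φ w (θ.le ⟨w, rfl⟩)

theorem Par.gp_inv (θ : Par f) : θ.inv.gp = (𝟙 G : G ⟶ G)⁻¹.left θ.gp := by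
  show θ.φ⁻¹.left (genericPoint θ.W.left) = _
  rw [show θ.φ⁻¹ = θ.φ ≫ (𝟙 G : G ⟶ G)⁻¹ by rw [GrpObj.comp_inv, Category.comp_id], Over.comp_left,
    Scheme.Hom.comp_apply]
  rfl

theorem Par.isMax_inv {θ : Par f} (hθ : θ.IsMax) : θ.inv.IsMax := by
  intro ψ h
  rw [Par.gp_inv] at h ⊢
  have hinv : ∀ x : G.left, (𝟙 G : G ⟶ G)⁻¹.left ((𝟙 G : G ⟶ G)⁻¹.left x) = x := fun x => by
    rw [← Scheme.Hom.comp_apply, ← Over.comp_left, GrpObj.comp_inv, Category.comp_id, _root_.inv_inv]
    rfl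
  have h2 := h.map (𝟙 G : G ⟶ G)⁻¹.left.continuous
  rw [hinv, ← Par.gp_inv] at h2
  have h3 := hθ _ h2
  rw [Par.gp_inv] at h3
  rw [← h3, hinv]

/-- Products of families. -/
noncomputable def Par.mul (θ ψ : Par f) : Par f where
  W := θ.W ⊗ ψ.W
  irr := by
    haveI := H19Grp.geometricallyIrreducible_of_irreducibleSpace θ.W.hom
    show IrreducibleSpace ↥(pullback θ.W.hom ψ.W.hom)
    haveI : UniversallyOpen θ.W.hom := inferInstance
    infer_instance
  lft := inferInstanceAs (LocallyOfFiniteType (pullback.fst θ.W.hom ψ.W.hom ≫ θ.W.hom))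
  φ := (fst θ.W ψ.W ≫ θ.φ) * (snd θ.W ψ.W ≫ ψ.φ)
  n := θ.n + ψ.n
  le := by
    rintro _ ⟨w, rfl⟩
    refine mem_lenSet_mul _ _ w (θ.le ?_) (ψ.le ?_)
    · exact ⟨(fst θ.W ψ.W).left w, (Scheme.Hom.comp_apply _ _ _).symm⟩
    · exact ⟨(snd θ.W ψ.W).left w, (Scheme.Hom.comp_apply _ _ _).symm⟩

theorem Par.gp_mul {θ : Par f} (hθ : θ.IsMax) (ψ : Par f) (w : 𝟙_ (Over (Spec (CommRingCat.of k))) ⟶ ψ.W) :
    (θ.mul ψ).gp = (R (w ≫ ψ.φ)).left θ.gp := by
  have hy : (w ≫ ψ.φ).left pt₀ ∈ lenSet f ψ.n :=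
    ψ.le ⟨w.left pt₀, (Scheme.Hom.comp_apply _ _ _).symm⟩
  rw [← Par.gp_translate θ _ _ hy]
  refine (θ.isMax_translate hθ _ _ hy) _ ((θ.mul ψ).specializes ?_)
  refine ⟨(lift (𝟙 θ.W) (toUnit θ.W ≫ w)).left (genericPoint θ.W.left), ?_⟩
  refine (Scheme.Hom.comp_apply _ _ _).symm.trans ?_
  show ((lift (𝟙 θ.W) (toUnit θ.W ≫ w)) ≫ ((fst θ.W ψ.W ≫ θ.φ) * (snd θ.W ψ.W ≫ ψ.φ))).left _ = _
  rw [MonObj.comp_mul, lift_fst_assoc, lift_snd_assoc, Category.id_comp, Category.assoc, ← comp_R]
  rfl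

/-- Words lie in the identity component. -/
theorem lenSet_subset_component
    (he : ∀ x : X.left, ∃ z ∈ connectedComponent (α := X.left) x,
      f.left z = (1 : 𝟙_ (Over (Spec (CommRingCat.of k))) ⟶ G).left pt₀) (n : ℕ) :
    lenSet f n ⊆ connectedComponent (α := G.left) (H19Grp.ePt (H19Grp.grpToGrpd G) (Iso.refl _)) := by
  have hr : Set.range f.left ⊆
      connectedComponent (α := G.left) (H19Grp.ePt (H19Grp.grpToGrpd G) (Iso.refl _)) := by
    rintro _ ⟨x, rfl⟩
    obtain ⟨z, hz, hze⟩ := he x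
    refine (isConnected_connectedComponent.image f.left f.left.continuous.continuousOn).subset_connectedComponent ?_
      ⟨x, mem_connectedComponent, rfl⟩
    have h1 : η[G].left (pt₀ (k := k)) = H19Grp.ePt (H19Grp.grpToGrpd G) (Iso.refl _) :=
      H19Grp.e_apply_eq (H19Grp.grpToGrpd G) (Iso.refl _) pt₀
    rw [← h1]
    refine ⟨z, hz, hze.trans ?_⟩
    rw [show η[G] = (1 : 𝟙_ (Over (Spec (CommRingCat.of k))) ⟶ G) by
      rw [Hom.one_def, Subsingleton.elim (toUnit (𝟙_ (Over (Spec (CommRingCat.of k))))) (𝟙 _), Category.id_comp]]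
  obtain ⟨g, hg⟩ := H19Grp.idComp_lift G f hr
  obtain ⟨inst, hhom⟩ := H19Grp.exists_grpObj_idComp G
  letI := inst
  haveI := hhom
  rintro _ ⟨T, t, L, -, rfl⟩
  obtain ⟨h, hh⟩ := factor_of_isWord (X := fun _ : PUnit.{u+1} => X) (f := single f) (H19Grp.idCompι G)
    (fun _ => ⟨g, hg⟩) (lprod_isWord L)
  rw [← H19Grp.range_idCompι, ← hh, Over.comp_left, Scheme.Hom.comp_apply]
  exact ⟨_, rfl⟩

/-- There is a maximal family. -/
theorem exists_isMax
    (he : ∀ x : X.left, ∃ z ∈ connectedComponent (α := X.left) x,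
      f.left z = (1 : 𝟙_ (Over (Spec (CommRingCat.of k))) ⟶ G).left pt₀) :
    ∃ θ : Par f, θ.IsMax := by
  have hcomp := H19Grp.connectedComponent_eq_irreducibleComponent (H19Grp.grpToGrpd G) (Iso.refl _)
    (H19Grp.ePt (H19Grp.grpToGrpd G) (Iso.refl _))
  obtain ⟨ζ, hζ⟩ := QuasiSober.sober (isIrreducible_irreducibleComponent
    (x := (H19Grp.ePt (H19Grp.grpToGrpd G) (Iso.refl _) : G.left))) isClosed_irreducibleComponent
  obtain ⟨B, hB⟩ := H8Props.FieldDim.exists_nat_cdim G.hom ζ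
  have hbound : ∀ θ : Par f, cdim θ.gp ≤ (B : WithBot ℕ∞) := fun θ => by
    rw [← hB]
    refine H3CAlg.PruferFibreDim.cdim_mono (hζ.specializes ?_)
    exact hcomp.le (lenSet_subset_component he θ.n (θ.le ⟨_, rfl⟩))
  let θ₀ : Par f :=
    { W := 𝟙_ _
      irr := inferInstanceAs (IrreducibleSpace (Spec (CommRingCat.of k)))
      lft := inferInstanceAs (LocallyOfFiniteType (𝟙 (Spec (CommRingCat.of k))))
      φ := 1
      n := 0
      le := by
        rintro _ ⟨w, rfl⟩
        exact ⟨_, w, [], rfl, rfl⟩ }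
  choose d hd using fun θ : Par f => H8Props.FieldDim.exists_nat_cdim G.hom θ.gp
  have hdB : ∀ θ, d θ ≤ B := fun θ => by
    have := hbound θ
    rw [hd] at this
    exact_mod_cast this
  classical
  let P : ℕ → Prop := fun m => ∃ θ : Par f, d θ = m
  obtain ⟨θ, hθ⟩ := Nat.findGreatest_spec (P := P) (hdB θ₀) ⟨θ₀, rfl⟩
  refine ⟨θ, fun ψ h => ?_⟩
  by_contra hne
  have h1 := H8Props.FieldDim.cdim_lt G.hom h hne
  rw [hd, hd] at h1
  have h2 : d θ < d ψ := by exact_mod_cast h1
  have h3 : d ψ ≤ d θ := hθ ▸ Nat.le_findGreatest (hdB ψ) ⟨ψ, rfl⟩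
  omega

variable (f)

/-- The rational points stabilising a point. -/
def Stab (h : G.left) (y : 𝟙_ (Over (Spec (CommRingCat.of k))) ⟶ G) : Prop := (R y).left h = h

theorem stab_mul {h : G.left} {y z : 𝟙_ (Over (Spec (CommRingCat.of k))) ⟶ G} (hy : Stab h y) (hz : Stab h z) :
    Stab h (y * z) := by
  rw [Stab, ← R_comp, Over.comp_left, Scheme.Hom.comp_apply, hy, hz]

theorem stab_inv {h : G.left} {y : 𝟙_ (Over (Spec (CommRingCat.of k))) ⟶ G} (hy : Stab h y) : Stab h y⁻¹ := by
  have h1 := R_apply_inv y h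
  rwa [hy] at h1

/-- A bounded word length reaches a dense subset of the words. -/
theorem exists_generic_of_components [LocallyOfFiniteType X.hom] [QuasiCompact X.hom]
    (he : ∀ x : X.left, ∃ z ∈ connectedComponent (α := X.left) x,
      f.left z = (1 : 𝟙_ (Over (Spec (CommRingCat.of k))) ⟶ G).left pt₀) :
    ∃ (N : ℕ) (h : G.left), h ∈ lenSet f N ∧ (⋃ n, lenSet f n) ⊆ closure {h} := by
  obtain ⟨θ, hθ⟩ := exists_isMax he
  have hθi := θ.isMax_inv hθ
  let χ := θ.inv.mul θ
  obtain ⟨c, hc⟩ : ∃ c : θ.W.left, IsClosed ({c} : Set θ.W.left) := by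
    haveI : JacobsonSpace θ.W.left := LocallyOfFiniteType.jacobsonSpace θ.W.hom
    obtain ⟨c, -, hc⟩ := nonempty_inter_closedPoints (Z := (Set.univ : Set θ.W.left))
      Set.univ_nonempty isClosed_univ.isLocallyClosed
    exact ⟨c, hc⟩
  obtain ⟨w₀, -⟩ := exists_point c hc
  have hχ : χ.IsMax := by
    intro ψ h
    have hy : (w₀ ≫ θ.φ).left pt₀ ∈ lenSet f θ.n := θ.le ⟨w₀.left pt₀, (Scheme.Hom.comp_apply _ _ _).symm⟩
    have e : χ.gp = (θ.inv.translate _ _ hy).gp := by
      rw [Par.gp_translate]; exact Par.gp_mul hθi θ w₀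
    rw [e] at h ⊢
    exact θ.inv.isMax_translate hθi _ _ hy ψ h
  let η₀ := χ.gp
  have hone : η₀ ⤳ (1 : 𝟙_ (Over (Spec (CommRingCat.of k))) ⟶ G).left pt₀ := by
    refine χ.specializes ⟨(lift w₀ w₀).left pt₀, ?_⟩
    refine (Scheme.Hom.comp_apply _ _ _).symm.trans ?_
    show (lift w₀ w₀ ≫ ((fst θ.W θ.W ≫ θ.φ⁻¹) * (snd θ.W θ.W ≫ θ.φ))).left _ = _
    rw [MonObj.comp_mul, lift_fst_assoc, lift_snd_assoc, GrpObj.comp_inv, inv_mul_cancel]
  -- translations by the letters
  have hconst : ∀ (C : Set X.left), C ∈ irreducibleComponents X.left →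
      ∀ (x x' : 𝟙_ (Over (Spec (CommRingCat.of k))) ⟶ X), x.left pt₀ ∈ C → x'.left pt₀ ∈ C →
      (R (x ≫ f)).left η₀ = (R (x' ≫ f)).left η₀ := by
    intro C hC x x' hx hx'
    let I := Scheme.IdealSheafData.vanishingIdeal (X := X.left) ⟨C, isClosed_of_mem_irreducibleComponents C hC⟩
    let W : Over (Spec (CommRingCat.of k)) := Over.mk (I.subschemeι ≫ X.hom)
    let j : W ⟶ X := Over.homMk I.subschemeι rfl
    have hr : Set.range j.left = C :=
      I.range_subschemeι.trans (Scheme.IdealSheafData.coe_support_vanishingIdeal _)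
    haveI : IrreducibleSpace W.left := by
      haveI : IrreducibleSpace (Set.range I.subschemeι) := by
        rw [show Set.range I.subschemeι = C from hr]; exact Subtype.irreducibleSpace hC.1
      exact (I.subschemeι.isEmbedding.toHomeomorph).irreducibleSpace_iff.mpr inferInstance
    haveI : LocallyOfFiniteType W.hom := inferInstanceAs (LocallyOfFiniteType (I.subschemeι ≫ X.hom))
    let ψ : Par f :=
      { W := W, irr := inferInstance, lft := inferInstance, φ := j ≫ f, n := 1
        le := by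
          rintro _ ⟨w, rfl⟩
          refine ⟨W, w, [(true, j)], rfl, ?_⟩
          simp [lprod, sgn] }
    have hlift : ∀ z : 𝟙_ (Over (Spec (CommRingCat.of k))) ⟶ X, z.left pt₀ ∈ C →
        ∃ z' : 𝟙_ (Over (Spec (CommRingCat.of k))) ⟶ W, z' ≫ j = z := by
      intro z hz
      obtain ⟨c', hc'⟩ := hr.ge hz
      have hcl : IsClosed ({c'} : Set W.left) := by
        have h1 : IsClosed ({z.left pt₀} : Set X.left) :=
          ((pointEquivClosedPoint X.hom) ⟨z.left, Over.w z⟩).2
        have h2 : j.left ⁻¹' {z.left pt₀} = {c'} := by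
          ext v
          exact ⟨fun hv => I.subschemeι.isEmbedding.injective (hv.trans hc'.symm),
            fun hv => by rw [Set.mem_preimage, Set.mem_singleton_iff.mp hv]; exact hc'⟩
        rw [← h2]
        exact h1.preimage j.left.continuous
      obtain ⟨z', hz'⟩ := exists_point c' hcl
      refine ⟨z', point_ext _ _ ?_⟩
      rw [Over.comp_left, Scheme.Hom.comp_apply, hz', hc']
    obtain ⟨z, hz⟩ := hlift x hx
    obtain ⟨z', hz'⟩ := hlift x' hx'
    rw [← hz, ← hz', Category.assoc, Category.assoc, ← Par.gp_mul hχ ψ z, ← Par.gp_mul hχ ψ z']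
  haveI : JacobsonSpace X.left := LocallyOfFiniteType.jacobsonSpace X.hom
  haveI : IsLocallyNoetherian X.left := LocallyOfFiniteType.isLocallyNoetherian X.hom
  haveI : CompactSpace X.left := QuasiCompact.compactSpace_of_compactSpace X.hom
  haveI : IsNoetherian X.left := {}
  have hfin := NoetherianSpace.finite_irreducibleComponents (α := X.left)
  have hone' : ∀ v : X.left, ∃ x₁ : 𝟙_ (Over (Spec (CommRingCat.of k))) ⟶ X,
      x₁.left pt₀ ∈ connectedComponent (α := X.left) v ∧ x₁ ≫ f = 1 := fun v => by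
    obtain ⟨z, hzv, hz⟩ := he v
    have hclosed : IsClosed (f.left ⁻¹' {(1 : 𝟙_ (Over (Spec (CommRingCat.of k))) ⟶ G).left pt₀}) :=
      (((pointEquivClosedPoint G.hom) ⟨(1 : 𝟙_ (Over (Spec (CommRingCat.of k))) ⟶ G).left,
        Over.w _⟩).2).preimage f.left.continuous
    obtain ⟨z', ⟨hz'v, hz'⟩, hz'c⟩ := nonempty_inter_closedPoints
      (Z := connectedComponent (α := X.left) v ∩
        f.left ⁻¹' {(1 : 𝟙_ (Over (Spec (CommRingCat.of k))) ⟶ G).left pt₀})
      ⟨z, hzv, hz⟩ (isClosed_connectedComponent.inter hclosed).isLocallyClosed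
    obtain ⟨x₁, hx₁⟩ := exists_point z' hz'c
    exact ⟨x₁, by rw [hx₁]; exact hz'v,
      point_ext _ _ (by rw [Over.comp_left, Scheme.Hom.comp_apply, hx₁]; exact hz')⟩
  have hstab : ∀ x : 𝟙_ (Over (Spec (CommRingCat.of k))) ⟶ X, Stab η₀ (x ≫ f) := by
    let good : Set (Set X.left) := {C | ∀ x : 𝟙_ (Over (Spec (CommRingCat.of k))) ⟶ X,
      x.left pt₀ ∈ C → Stab η₀ (x ≫ f)}
    let A := ⋃ C ∈ irreducibleComponents X.left ∩ good, C
    let B := ⋃ C ∈ irreducibleComponents X.left \ good, C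
    have hA : IsClosed A := (hfin.inter_of_left _).isClosed_biUnion fun C hC =>
      isClosed_of_mem_irreducibleComponents C hC.1
    have hBc : IsClosed B := (hfin.sdiff).isClosed_biUnion fun C hC =>
      isClosed_of_mem_irreducibleComponents C hC.1
    have hcover : A ∪ B = Set.univ := Set.eq_univ_of_forall fun x => by
      by_cases h : irreducibleComponent x ∈ good
      · exact Or.inl (Set.mem_biUnion ⟨irreducibleComponent_mem_irreducibleComponents x, h⟩
          mem_irreducibleComponent)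
      · exact Or.inr (Set.mem_biUnion ⟨irreducibleComponent_mem_irreducibleComponents x, h⟩
          mem_irreducibleComponent)
    have hdisj : A ∩ B = ∅ := by
      by_contra hne
      obtain ⟨z, ⟨hzA, hzB⟩, hzc⟩ := nonempty_inter_closedPoints (Set.nonempty_iff_ne_empty.mpr hne)
        (hA.inter hBc).isLocallyClosed
      obtain ⟨C, ⟨hC, hCg⟩, hzC⟩ := Set.mem_iUnion₂.mp hzA
      obtain ⟨C', ⟨hC', hC'g⟩, hzC'⟩ := Set.mem_iUnion₂.mp hzB
      obtain ⟨w, hw⟩ := exists_point z hzc
      refine hC'g fun x hx => ?_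
      rw [Stab, hconst C' hC' x w hx (by rw [hw]; exact hzC')]
      exact hCg w (by rw [hw]; exact hzC)
    have hAne : ∀ x₁ : 𝟙_ (Over (Spec (CommRingCat.of k))) ⟶ X, x₁ ≫ f = 1 →
        (irreducibleComponent (x₁.left pt₀)) ∈ good := fun x₁ hx₁ x hx => by
      rw [Stab, hconst _ (irreducibleComponent_mem_irreducibleComponents _) x x₁ hx mem_irreducibleComponent,
        hx₁, R_one]
      rfl
    have hAu : A = Set.univ := by
      have hclopen : IsClopen A := ⟨hA, by
        rw [show A = Bᶜ from (IsCompl.compl_eq ⟨Set.disjoint_iff_inter_eq_empty.mpr ((Set.inter_comm B A).trans hdisj),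
          codisjoint_iff.mpr ((Set.union_comm B A).trans hcover)⟩).symm]
        exact hBc.isOpen_compl⟩
      refine Set.eq_univ_of_forall fun v => ?_
      obtain ⟨x₁, hv, hx₁⟩ := hone' v
      have hc : connectedComponent (α := X.left) (x₁.left pt₀) ⊆ A := hclopen.connectedComponent_subset
        (Set.mem_biUnion ⟨irreducibleComponent_mem_irreducibleComponents _, hAne x₁ hx₁⟩ mem_irreducibleComponent)
      rw [← connectedComponent_eq hv] at hc
      exact hc mem_connectedComponent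
    intro x
    obtain ⟨C, ⟨-, hCg⟩, hxC⟩ := Set.mem_iUnion₂.mp (hAu.ge (Set.mem_univ (x.left pt₀)))
    exact hCg x hxC
  refine ⟨χ.n, η₀, χ.le ⟨_, rfl⟩, ?_⟩
  rw [← wordSet_single]
  refine Set.iUnion_subset fun l => ?_
  have hword : ∀ (l : List (PUnit.{u+1} × Bool))
      (v : 𝟙_ (Over (Spec (CommRingCat.of k))) ⟶ wordSrc (fun _ : PUnit.{u+1} => X) l),
      Stab η₀ (v ≫ word (single f) l) := by
    intro l
    induction l with
    | nil =>
      intro v
      rw [show v ≫ word (single f) [] = 1 from MonObj.comp_one v, Stab, R_one]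
      rfl
    | cons a l ih =>
      intro v
      rw [comp_word_cons (single f) a l v]
      refine stab_mul ?_ (ih _)
      obtain ⟨-, b⟩ := a
      cases b
      · exact stab_inv (hstab _)
      · exact hstab _
  haveI : ∀ l, LocallyOfFiniteType (wordSrc (fun _ : PUnit.{u+1} => X) l).hom := by
    intro l
    induction l with
    | nil => exact inferInstanceAs (LocallyOfFiniteType (𝟙 (Spec (CommRingCat.of k))))
    | cons a l ih =>
      exact inferInstanceAs (LocallyOfFiniteType (pullback.fst X.hom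
        (wordSrc (fun _ : PUnit.{u+1} => X) l).hom ≫ X.hom))
  haveI : JacobsonSpace (wordSrc (fun _ : PUnit.{u+1} => X) l).left :=
    LocallyOfFiniteType.jacobsonSpace (wordSrc (fun _ : PUnit.{u+1} => X) l).hom
  rintro _ ⟨v, rfl⟩
  have hv : v ∈ closure (closedPoints (wordSrc (fun _ : PUnit.{u+1} => X) l).left) := by
    rw [closure_closedPoints]; trivial
  refine isClosed_closure.closure_subset_iff.mpr ?_
    (image_closure_subset_closure_image (word (single f) l).left.continuous ⟨v, hv, rfl⟩)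
  rintro _ ⟨c', hc', rfl⟩
  obtain ⟨w, hw⟩ := exists_point c' hc'
  have h1 := hone.map (R (w ≫ word (single f) l)).left.continuous
  rw [hword l w] at h1
  rw [← hw, ← Scheme.Hom.comp_apply, ← Over.comp_left]
  refine (h1.trans (specializes_of_eq ?_)).mem_closure
  rw [← Scheme.Hom.comp_apply, ← Over.comp_left, comp_R, _root_.one_mul,
    Subsingleton.elim (toUnit (𝟙_ (Over (Spec (CommRingCat.of k))))) (𝟙 _), Category.id_comp]

/-- A bounded word length reaches a dense subset of the words in a connected family through the unit. -/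
theorem exists_generic [LocallyOfFiniteType X.hom] [QuasiCompact X.hom] [ConnectedSpace X.left]
    (he : (1 : 𝟙_ (Over (Spec (CommRingCat.of k))) ⟶ G).left pt₀ ∈ Set.range f.left) :
    ∃ (N : ℕ) (h : G.left), h ∈ lenSet f N ∧ (⋃ n, lenSet f n) ⊆ closure {h} := by
  obtain ⟨z, hz⟩ := he
  exact exists_generic_of_components f fun x =>
    ⟨z, by rw [PreconnectedSpace.connectedComponent_eq_univ]; trivial, hz⟩

end Groth.Agent.H06GenSub.Borel
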