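import Mathlib
import Groth.Agent.H06GenSub.Bounded
import Groth.Agent.H06GenSub.Baer
import Groth.Agent.H19Grp.Components
import Groth.Agent.H19Grp.Neutral
import Groth.Agent.H17.Topology

/-!
Commutators of two families of rational points have bounded width.
-/

set_option autoImplicit false
set_option linter.style.haveILetI false
set_option linter.unusedSectionVars false
set_option backward.isDefEq.respectTransparency false

universe u

open CategoryTheory CategoryTheory.Limits MonoidalCategory CartesianMonoidalCategory MonObj GrpObj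
  AlgebraicGeometry TopologicalSpace
open scoped commutatorElement

namespace Groth.Agent.H06GenSub.Commutator

open Groth.Agent.H06GenSub.Borel (pt₀)

variable {k : Type u} [Field k]

local notation "pt" => 𝟙_ (Over (Spec (CommRingCat.of k)))

section maps

variable {G X Y : Over (Spec (CommRingCat.of k))} [GrpObj G]

/-- The commutator of two families. -/
noncomputable def cmap (a : X ⟶ G) (b : Y ⟶ G) : X ⊗ Y ⟶ G := ⁅fst X Y ≫ a, snd X Y ≫ b⁆

theorem lift_cmap {T : Over (Spec (CommRingCat.of k))} (x : T ⟶ X) (y : T ⟶ Y) (a : X ⟶ G) (b : Y ⟶ G) :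
    lift x y ≫ cmap a b = ⁅x ≫ a, y ≫ b⁆ := by
  simp only [cmap, commutatorElement_def, MonObj.comp_mul, GrpObj.comp_inv, lift_fst_assoc, lift_snd_assoc]

theorem comp_cmap {X' Y' : Over (Spec (CommRingCat.of k))} (p : X' ⟶ X) (q : Y' ⟶ Y) (a : X ⟶ G) (b : Y ⟶ G) :
    (p ⊗ₘ q) ≫ cmap a b = cmap (p ≫ a) (q ≫ b) := by
  rw [show (p ⊗ₘ q) = lift (fst X' Y' ≫ p) (snd X' Y' ≫ q) by ext <;> simp, lift_cmap, Category.assoc,
    Category.assoc]
  rfl

theorem range_cmap (a : X ⟶ G) (b : Y ⟶ G) :
    Set.range (fun z : pt ⟶ X ⊗ Y => z ≫ cmap a b) =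
      {g | ∃ (x : pt ⟶ X) (y : pt ⟶ Y), ⁅x ≫ a, y ≫ b⁆ = g} := by
  ext g
  constructor
  · rintro ⟨z, rfl⟩
    exact ⟨z ≫ fst X Y, z ≫ snd X Y, by rw [← lift_cmap, ← comp_lift, lift_fst_snd, Category.comp_id]⟩
  · rintro ⟨x, y, rfl⟩
    exact ⟨lift x y, lift_cmap x y a b⟩

theorem lenSet_comp {Z : Over (Spec (CommRingCat.of k))} (q : Z ⟶ X) (f : X ⟶ G) (n : ℕ) :
    lenSet (q ≫ f) n ⊆ lenSet f n := by
  rintro _ ⟨T, t, L, hL, rfl⟩
  refine ⟨T, t, L.map fun p => (p.1, p.2 ≫ q), by rw [List.length_map, hL], ?_⟩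
  simp only [lprod, List.map_map, Function.comp_def, Category.assoc]

theorem one_mem_range_cmap (a : X ⟶ G) (b : Y ⟶ G) (x : pt ⟶ X) (y : pt ⟶ Y) (hx : x ≫ a = 1)
    (T : Over (Spec (CommRingCat.of k))) (t : T.left) :
    (1 : T ⟶ G).left t ∈ Set.range (cmap a b).left := by
  refine ⟨(lift (toUnit T ≫ x) (toUnit T ≫ y)).left t, ?_⟩
  rw [← Scheme.Hom.comp_apply, ← Over.comp_left, lift_cmap, Category.assoc, hx, MonObj.comp_one,
    commutatorElement_one_left]

end maps

variable [IsAlgClosed k] {G : Over (Spec (CommRingCat.of k))} [GrpObj G] [LocallyOfFiniteType G.hom]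

/-- Words with bounded rational values have bounded width. -/
theorem subset_closure_of_points {X : Over (Spec (CommRingCat.of k))} [LocallyOfFiniteType X.hom]
    (f : X ⟶ G) (N : ℕ)
    (h : ∀ g ∈ Subgroup.closure (Set.range fun x : pt ⟶ X => x ≫ f), g.left pt₀ ∈ lenSet f N) :
    (⋃ n, lenSet f n) ⊆ closure (lenSet f N) := by
  rw [← wordSet_single]
  refine Set.iUnion_subset fun l => ?_
  rintro _ ⟨v, rfl⟩
  haveI := Rational.lft_wordSrc (X := fun _ : PUnit.{u+1} => X) l
  haveI : JacobsonSpace (wordSrc (fun _ : PUnit.{u+1} => X) l).left :=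
    LocallyOfFiniteType.jacobsonSpace (wordSrc (fun _ : PUnit.{u+1} => X) l).hom
  have hv : v ∈ closure (closedPoints (wordSrc (fun _ : PUnit.{u+1} => X) l).left) := by
    rw [closure_closedPoints]; trivial
  refine closure_mono ?_ (image_closure_subset_closure_image (word (single f) l).left.continuous ⟨v, hv, rfl⟩)
  rintro _ ⟨c, hc, rfl⟩
  obtain ⟨w, hw⟩ := Borel.exists_point c hc
  rw [← hw, ← Scheme.Hom.comp_apply, ← Over.comp_left]
  refine h _ ?_
  refine (Subgroup.closure_mono ?_) (Rational.isWord_mem_closure (isWord_comp w (isWord_word l)))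
  intro y hy
  obtain ⟨_, x, e⟩ := hy
  exact ⟨x, e⟩

variable {X Y : Over (Spec (CommRingCat.of k))} [LocallyOfFiniteType X.hom] [LocallyOfFiniteType Y.hom]
  [QuasiCompact X.hom] [QuasiCompact Y.hom] [GeometricallyReduced X.hom] [GeometricallyReduced Y.hom]

/-- The commutators of two families, one of which is connected through the unit, have bounded width. -/
theorem exists_bound (a : X ⟶ G) (b : Y ⟶ G)
    (h : (ConnectedSpace X.left ∧ ∃ x : pt ⟶ X, x ≫ a = 1) ∨
      (ConnectedSpace Y.left ∧ ∃ y : pt ⟶ Y, y ≫ b = 1)) :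
    ∃ N : ℕ, (⋃ n, lenSet (cmap a b) n) ⊆ closure (lenSet (cmap a b) N) := by
  haveI : LocallyOfFiniteType (X ⊗ Y).hom :=
    inferInstanceAs (LocallyOfFiniteType (pullback.fst X.hom Y.hom ≫ X.hom))
  haveI : QuasiCompact (X ⊗ Y).hom :=
    inferInstanceAs (QuasiCompact (pullback.fst X.hom Y.hom ≫ X.hom))
  haveI : JacobsonSpace (X ⊗ Y).left := LocallyOfFiniteType.jacobsonSpace (X ⊗ Y).hom
  obtain ⟨N, η₀, hN, hgen⟩ := Borel.exists_generic_of_components (cmap a b) fun v => by
    obtain ⟨c, hc, hcc⟩ := nonempty_inter_closedPoints (Z := connectedComponent (α := (X ⊗ Y).left) v)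
      ⟨v, mem_connectedComponent⟩ isClosed_connectedComponent.isLocallyClosed
    obtain ⟨w, hw⟩ := Borel.exists_point c hcc
    rcases h with ⟨hX, x, hx⟩ | ⟨hY, y, hy⟩
    · let s : X ⟶ X ⊗ Y := lift (𝟙 X) (toUnit X ≫ w ≫ snd X Y)
      have hsub := (isPreconnected_range s.left.continuous).subset_connectedComponent
        (x := c) ⟨(w ≫ fst X Y).left pt₀, by
          rw [← Scheme.Hom.comp_apply, ← Over.comp_left, ← hw]
          simp only [s, comp_lift, Category.comp_id, ← Category.assoc,
            Subsingleton.elim ((w ≫ fst X Y) ≫ toUnit X) (𝟙 pt), Category.id_comp]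
          rw [← comp_lift, lift_fst_snd, Category.comp_id]⟩
      refine ⟨(x ≫ s).left pt₀, ?_, ?_⟩
      · rw [connectedComponent_eq hc]
        exact hsub ⟨x.left pt₀, (Scheme.Hom.comp_apply _ _ _).symm⟩
      · rw [← Scheme.Hom.comp_apply, ← Over.comp_left]
        simp only [s, comp_lift, lift_cmap, Category.comp_id, hx, commutatorElement_one_left]
    · let s : Y ⟶ X ⊗ Y := lift (toUnit Y ≫ w ≫ fst X Y) (𝟙 Y)
      have hsub := (isPreconnected_range s.left.continuous).subset_connectedComponent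
        (x := c) ⟨(w ≫ snd X Y).left pt₀, by
          rw [← Scheme.Hom.comp_apply, ← Over.comp_left, ← hw]
          simp only [s, comp_lift, Category.comp_id, ← Category.assoc,
            Subsingleton.elim ((w ≫ snd X Y) ≫ toUnit Y) (𝟙 pt), Category.id_comp]
          rw [← comp_lift, lift_fst_snd, Category.comp_id]⟩
      refine ⟨(y ≫ s).left pt₀, ?_, ?_⟩
      · rw [connectedComponent_eq hc]
        exact hsub ⟨y.left pt₀, (Scheme.Hom.comp_apply _ _ _).symm⟩
      · rw [← Scheme.Hom.comp_apply, ← Over.comp_left]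
        simp only [s, comp_lift, lift_cmap, Category.comp_id, hy, commutatorElement_one_right]
  exact ⟨N, hgen.trans (closure_mono (Set.singleton_subset_iff.mpr hN))⟩

/-- Products of commutators of a connected family have bounded length. -/
theorem exists_bound_points (a : X ⟶ G) (b : Y ⟶ G)
    (h : (ConnectedSpace X.left ∧ ∃ x : pt ⟶ X, x ≫ a = 1) ∨
      (ConnectedSpace Y.left ∧ ∃ y : pt ⟶ Y, y ≫ b = 1)) :
    ∃ N : ℕ, ∀ g ∈ Subgroup.closure (Set.range fun z : pt ⟶ X ⊗ Y => z ≫ cmap a b),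
      g.left pt₀ ∈ lenSet (cmap a b) N := by
  haveI : LocallyOfFiniteType (X ⊗ Y).hom :=
    inferInstanceAs (LocallyOfFiniteType (pullback.fst X.hom Y.hom ≫ X.hom))
  haveI : QuasiCompact (X ⊗ Y).hom :=
    inferInstanceAs (QuasiCompact (pullback.fst X.hom Y.hom ≫ X.hom))
  haveI : GeometricallyReduced (X ⊗ Y).hom := geometricallyReduced_tensor
  obtain ⟨N, hN⟩ := exists_bound a b h
  refine ⟨N + N, fun g hg => ?_⟩
  rw [← closure_wordSet_eq_lenSet (cmap a b) hN]
  refine subset_closure ((Rational.mem_wordSet_iff_mem_closure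
    (X := fun _ : PUnit.{u+1} => X ⊗ Y) (f := single (cmap a b)) g).mpr ?_)
  refine Subgroup.closure_mono ?_ hg
  rintro _ ⟨z, rfl⟩
  exact ⟨PUnit.unit, z, rfl⟩

end Groth.Agent.H06GenSub.Commutator

namespace Groth.Agent.H06GenSub.Commutator

open Groth.Agent.H06GenSub.Borel (pt₀)

variable {k : Type u} [Field k] [IsAlgClosed k]

local notation "pt" => 𝟙_ (Over (Spec (CommRingCat.of k)))

/-- A connected family of points of finite index inside a group scheme of finite type. -/
theorem exists_component (A : Over (Spec (CommRingCat.of k))) [GrpObj A] [LocallyOfFiniteType A.hom]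
    [QuasiCompact A.hom] [GeometricallyReduced A.hom] :
    ∃ (X : Over (Spec (CommRingCat.of k))) (j : X ⟶ A) (N : Type u) (_ : Finite N) (cl : (pt ⟶ A) → N),
      LocallyOfFiniteType X.hom ∧ QuasiCompact X.hom ∧ GeometricallyReduced X.hom ∧ ConnectedSpace X.left ∧
      (∃ x : pt ⟶ X, x ≫ j = 1) ∧
      (∀ x y, cl x = cl y → ∃ z : pt ⟶ X, z ≫ j = x⁻¹ * y) ∧
      ∀ φ : A ⟶ A, (1 : pt ⟶ A) ≫ φ = 1 → ∀ z : pt ⟶ X, ∃ z' : pt ⟶ X, z' ≫ j = z ≫ j ≫ φ := by
  haveI : IsLocallyNoetherian A.left := LocallyOfFiniteType.isLocallyNoetherian A.hom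
  haveI : CompactSpace A.left := QuasiCompact.compactSpace_of_compactSpace A.hom
  haveI : IsNoetherian A.left := {}
  haveI : LocallyConnectedSpace A.left :=
    H17.locallyConnectedSpace_of_locallyNoetherian fun x => ⟨Set.univ, Filter.univ_mem, inferInstance⟩
  let e : A.left := (1 : pt ⟶ A).left pt₀
  let U : A.left.Opens := ⟨connectedComponent e, isOpen_connectedComponent⟩
  let X : Over (Spec (CommRingCat.of k)) := Over.mk (U.ι ≫ A.hom)
  let j : X ⟶ A := Over.homMk U.ι rfl
  haveI : LocallyOfFiniteType X.hom := inferInstanceAs (LocallyOfFiniteType (U.ι ≫ A.hom))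
  haveI : CompactSpace X.left :=
    isCompact_iff_compactSpace.mp (isClosed_connectedComponent.isCompact : IsCompact (U : Set A.left))
  have hlift : ∀ y : pt ⟶ A, y.left pt₀ ∈ connectedComponent e → ∃ z : pt ⟶ X, z ≫ j = y := fun y hy =>
    Rational.exists_of_mem_range j y (U.range_ι.ge hy)
  have hmem : ∀ z : pt ⟶ X, (z ≫ j).left pt₀ ∈ connectedComponent e := fun z => by
    rw [Over.comp_left, Scheme.Hom.comp_apply]
    exact U.range_ι.le ⟨_, rfl⟩
  refine ⟨X, j, _root_.ConnectedComponents A.left, inferInstance, fun x => _root_.ConnectedComponents.mk (x.left pt₀),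
    inferInstance, (HasAffineProperty.iff_of_isAffine (P := @QuasiCompact)).mpr inferInstance, ?_,
    isConnected_iff_connectedSpace.mp isConnected_connectedComponent, hlift 1 mem_connectedComponent,
    fun x y hxy => ?_, fun φ hφ z => ?_⟩
  · refine ⟨fun L _ y P p q hP => ?_⟩
    have hQ := IsPullback.of_hasPullback A.hom y
    haveI : IsReduced (pullback A.hom y) := GeometricallyReduced.geometrically_isReduced _ _ _ hQ
    have hw : (p ≫ U.ι) ≫ A.hom = q ≫ y := by rw [Category.assoc]; exact hP.w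
    have hsq : IsPullback p (hQ.lift (p ≫ U.ι) q hw) U.ι (pullback.fst A.hom y) := by
      refine IsPullback.of_bot ?_ (hQ.lift_fst _ _ _).symm hQ
      rw [hQ.lift_snd]
      exact hP
    haveI : IsOpenImmersion (hQ.lift (p ≫ U.ι) q hw) :=
      MorphismProperty.of_isPullback (P := @IsOpenImmersion) hsq inferInstance
    exact isReduced_of_isOpenImmersion (hQ.lift (p ≫ U.ι) q hw)
  · refine hlift _ ?_
    let L : A ⟶ A := (toUnit A ≫ x⁻¹) * 𝟙 A
    have hL : ∀ w : pt ⟶ A, (x⁻¹ * w).left pt₀ = L.left (w.left pt₀) := fun w => by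
      rw [← Scheme.Hom.comp_apply, ← Over.comp_left, MonObj.comp_mul, Category.comp_id, ← Category.assoc,
        Subsingleton.elim (w ≫ toUnit A) (𝟙 pt), Category.id_comp]
    have hy : y.left pt₀ ∈ connectedComponent (x.left pt₀) := by
      rw [_root_.ConnectedComponents.coe_eq_coe.mp hxy]
      exact mem_connectedComponent
    rw [hL y]
    refine (isPreconnected_connectedComponent.image L.left L.left.continuous.continuousOn).subset_connectedComponent
      ?_ ⟨_, hy, rfl⟩
    exact ⟨x.left pt₀, mem_connectedComponent, by rw [← hL x, inv_mul_cancel]⟩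
  · refine hlift _ ?_
    rw [← Category.assoc, Over.comp_left, Scheme.Hom.comp_apply]
    refine (isPreconnected_connectedComponent.image φ.left φ.left.continuous.continuousOn).subset_connectedComponent
      ?_ ⟨_, hmem z, rfl⟩
    refine ⟨e, mem_connectedComponent, ?_⟩
    rw [← Scheme.Hom.comp_apply, ← Over.comp_left, hφ]

end Groth.Agent.H06GenSub.Commutator
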