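import Mathlib
import Groth.Agent.H06GenSub.Commutator
import Groth.Agent.H19Grp.ImageGroup
import Groth.Agent.S6073

/-!
The derived length and the nilpotency class of the points of an algebraic group over an algebraically closed
field are bounded by the dimension and the number of connected components.
-/

set_option autoImplicit false
set_option linter.style.haveILetI false
set_option linter.unusedSectionVars false
set_option backward.isDefEq.respectTransparency false

universe u

open CategoryTheory CategoryTheory.Limits MonoidalCategory CartesianMonoidalCategory MonObj GrpObj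
  AlgebraicGeometry TopologicalSpace
open scoped commutatorElement

namespace Groth.Agent.H06GenSub.ClassBound

open Groth.Agent.H06GenSub.Borel (pt₀)
open Groth.Agent.H06GenSub.Commutator (cmap)
open Groth.Agent.H8Props.FieldDim (cdim)

/-- A descending chain of subgroups of a finite group stabilises at the trivial group in at most `|M|` steps. -/
theorem eq_bot_of_card {M : Type*} [Group M] [Finite M] (F : ℕ → Subgroup M) (hanti : Antitone F)
    (hstat : ∀ i, F (i + 1) = F i → F (i + 2) = F (i + 1)) (h : ∃ m, F m = ⊥) : F (Nat.card M) = ⊥ := by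
  obtain ⟨m, hm⟩ := h
  have key : ∀ i, F i = ⊥ ∨ Nat.card (F i) + i ≤ Nat.card M := by
    intro i
    induction i with
    | zero => exact Or.inr (Subgroup.card_le_card_group _)
    | succ i ih =>
      rcases ih with h | h
      · exact Or.inl (le_bot_iff.mp (h ▸ hanti i.le_succ))
      · by_cases he : F (i + 1) = F i
        · have hall : ∀ j, F (i + j) = F i ∧ F (i + j + 1) = F (i + j) := by
            intro j
            induction j with
            | zero => exact ⟨rfl, he⟩
            | succ j ihj => exact ⟨ihj.2.trans ihj.1, hstat _ ihj.2⟩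
          left
          rw [he, ← (hall m).1]
          exact le_bot_iff.mp (hm ▸ hanti (Nat.le_add_left m i))
        · refine Or.inr ?_
          have h1 : Nat.card (F (i + 1)) < Nat.card (F i) :=
            lt_of_not_ge fun hge => he (Subgroup.eq_of_le_of_card_ge (hanti i.le_succ) hge)
          omega
  rcases key (Nat.card M) with h | h
  · exact h
  · have := Nat.card_pos (α := F (Nat.card M))
    omega

theorem derivedSeries_card {M : Type*} [Group M] [Finite M] (h : ∃ m, derivedSeries M m = ⊥) :
    derivedSeries M (Nat.card M) = ⊥ :=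
  eq_bot_of_card _ (derivedSeries_antitone M)
    (fun i hi => congrArg (fun H : Subgroup M => ⁅H, H⁆) hi) h

theorem lowerCentralSeries_card {M : Type*} [Group M] [Finite M]
    (h : ∃ m, (⊤ : Subgroup M).lowerCentralSeries m = ⊥) :
    (⊤ : Subgroup M).lowerCentralSeries (Nat.card M) = ⊥ :=
  eq_bot_of_card _ (Subgroup.lowerCentralSeries_antitone _)
    (fun i hi => congrArg (fun H : Subgroup M => ⁅H, (⊤ : Subgroup M)⁆) hi) h

variable {k : Type u} [Field k] [IsAlgClosed k]

local notation "pt" => 𝟙_ (Over (Spec (CommRingCat.of k)))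

variable {G : Over (Spec (CommRingCat.of k))} [GrpObj G] [LocallyOfFiniteType G.hom] [QuasiCompact G.hom]

/-- A subgroup of points which is the set of points of an irreducible geometrically reduced closed family. -/
def Con (H : Subgroup (pt ⟶ G)) : Prop :=
  ∃ (X : Over (Spec (CommRingCat.of k))) (j : X ⟶ G), IrreducibleSpace X.left ∧ GeometricallyReduced X.hom ∧
    IsClosedImmersion j.left ∧ Set.range (fun x : pt ⟶ X => x ≫ j) = (H : Set (pt ⟶ G))

/-- The closed set of a connected subgroup. -/
theorem Con.exists_closed {H : Subgroup (pt ⟶ G)} (h : Con H) :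
    ∃ ξ : G.left, ∀ g, g ∈ H ↔ ξ ⤳ g.left pt₀ := by
  obtain ⟨X, j, hX, -, hj, hr⟩ := h
  refine ⟨j.left (genericPoint X.left), fun g => ?_⟩
  haveI : LocallyOfFiniteType X.hom := by rw [← Over.w j]; infer_instance
  rw [← SetLike.mem_coe, ← hr]
  constructor
  · rintro ⟨x, rfl⟩
    rw [Over.comp_left, Scheme.Hom.comp_apply]
    exact (genericPoint_specializes _).map j.left.continuous
  · intro hs
    exact Rational.exists_of_mem_range j g (hs.mem_closed j.left.isClosedEmbedding.isClosed_range ⟨_, rfl⟩)

/-- The commutator of two subgroups, one connected, is connected. -/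
theorem Con.commutator {H K : Subgroup (pt ⟶ G)} (hH : Con H) (Y : Over (Spec (CommRingCat.of k))) (b : Y ⟶ G)
    [LocallyOfFiniteType Y.hom] [QuasiCompact Y.hom] [GeometricallyReduced Y.hom]
    (hK : Set.range (fun y : pt ⟶ Y => y ≫ b) = (K : Set (pt ⟶ G))) : Con ⁅H, K⁆ := by
  obtain ⟨X, j, hX, hXr, hj, hr⟩ := hH
  haveI : LocallyOfFiniteType X.hom := by rw [← Over.w j]; infer_instance
  haveI : QuasiCompact X.hom := by rw [← Over.w j]; infer_instance
  haveI : ConnectedSpace X.left := inferInstance
  haveI : LocallyOfFiniteType (X ⊗ Y).hom :=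
    inferInstanceAs (LocallyOfFiniteType (pullback.fst X.hom Y.hom ≫ X.hom))
  haveI : QuasiCompact (X ⊗ Y).hom :=
    inferInstanceAs (QuasiCompact (pullback.fst X.hom Y.hom ≫ X.hom))
  haveI : GeometricallyReduced (X ⊗ Y).hom := geometricallyReduced_tensor
  haveI : JacobsonSpace (X ⊗ Y).left := LocallyOfFiniteType.jacobsonSpace (X ⊗ Y).hom
  obtain ⟨x₁, hx₁⟩ : ∃ x : pt ⟶ X, x ≫ j = 1 := by
    have h1 : (1 : pt ⟶ G) ∈ Set.range (fun x : pt ⟶ X => x ≫ j) := by rw [hr]; exact one_mem H
    exact h1
  let f := cmap j b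
  obtain ⟨N, η₀, hN, hgen⟩ := Borel.exists_generic_of_components f fun v => by
    obtain ⟨c, hc, hcc⟩ := nonempty_inter_closedPoints (Z := connectedComponent (α := (X ⊗ Y).left) v)
      ⟨v, mem_connectedComponent⟩ isClosed_connectedComponent.isLocallyClosed
    obtain ⟨w, hw⟩ := Borel.exists_point c hcc
    let s : X ⟶ X ⊗ Y := lift (𝟙 X) (toUnit X ≫ w ≫ snd X Y)
    have hsub := (isPreconnected_range s.left.continuous).subset_connectedComponent
      (x := c) ⟨(w ≫ fst X Y).left pt₀, by
        rw [← Scheme.Hom.comp_apply, ← Over.comp_left, ← hw]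
        simp only [s, comp_lift, Category.comp_id, ← Category.assoc,
          Subsingleton.elim ((w ≫ fst X Y) ≫ toUnit X) (𝟙 pt), Category.id_comp]
        rw [← comp_lift, lift_fst_snd, Category.comp_id]⟩
    refine ⟨(x₁ ≫ s).left pt₀, ?_, ?_⟩
    · rw [connectedComponent_eq hc]
      exact hsub ⟨x₁.left pt₀, (Scheme.Hom.comp_apply _ _ _).symm⟩
    · rw [← Scheme.Hom.comp_apply, ← Over.comp_left]
      simp only [f, s, comp_lift, Commutator.lift_cmap, Category.comp_id, hx₁, commutatorElement_one_left]
  have hb : (⋃ n, lenSet f n) ⊆ closure (lenSet f N) :=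
    hgen.trans (closure_mono (Set.singleton_subset_iff.mpr hN))
  obtain ⟨instg, hι⟩ := exists_grpObj_gen (X := fun _ : PUnit.{u+1} => X ⊗ Y) (single f)
  letI := instg
  haveI := hι
  haveI : IrreducibleSpace (gen (X := fun _ : PUnit.{u+1} => X ⊗ Y) (single f)).left := by
    haveI : IrreducibleSpace (Set.range (genι (single f)).left) := by
      have e : Set.range (genι (single f)).left = closure {η₀} := by
        rw [range_genι]
        refine Set.Subset.antisymm (closure_minimal ?_ isClosed_closure)
          (closure_mono (Set.singleton_subset_iff.mpr ?_))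
        · rw [wordSet_single]; exact hgen
        · rw [wordSet_single]; exact Set.mem_iUnion.mpr ⟨N, hN⟩
      rw [e]
      exact Subtype.irreducibleSpace isIrreducible_singleton.closure
    exact ((genι (single f)).left.isEmbedding.toHomeomorph).irreducibleSpace_iff.mpr inferInstance
  refine ⟨_, genι (single f), inferInstance, geometricallyReduced_gen _, inferInstance, ?_⟩
  refine (range_points_smallest f hb (genι (single f)) (exists_gen_lift (single f) PUnit.unit)
    fun Γ' h' i' hm hc hfac => ?_).trans ?_
  · letI := h'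
    haveI := hm
    haveI := hc
    exact gen_le (single f) i' fun _ => hfac
  rw [Commutator.range_cmap]
  congr 2
  ext g
  constructor
  · rintro ⟨x, y, rfl⟩
    exact ⟨x ≫ j, hr.le ⟨x, rfl⟩, y ≫ b, hK.le ⟨y, rfl⟩, rfl⟩
  · rintro ⟨p, hp, q, hq, rfl⟩
    rw [← SetLike.mem_coe, ← hr] at hp
    rw [← SetLike.mem_coe, ← hK] at hq
    obtain ⟨x, rfl⟩ := hp
    obtain ⟨y, rfl⟩ := hq
    exact ⟨x, y, rfl⟩

theorem Con.exists_family {H : Subgroup (pt ⟶ G)} (h : Con H) :
    ∃ (Y : Over (Spec (CommRingCat.of k))) (b : Y ⟶ G), LocallyOfFiniteType Y.hom ∧ QuasiCompact Y.hom ∧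
      GeometricallyReduced Y.hom ∧ Set.range (fun y : pt ⟶ Y => y ≫ b) = (H : Set (pt ⟶ G)) := by
  obtain ⟨X, j, -, hXr, hj, hr⟩ := h
  exact ⟨X, j, by rw [← Over.w j]; infer_instance, by rw [← Over.w j]; infer_instance, hXr, hr⟩

/-- A descending chain of connected subgroups has length at most the dimension. -/
theorem chain_eq_bot (M : ℕ → Subgroup (pt ⟶ G)) (hcon : ∀ i, Con (M i)) (hanti : Antitone M)
    (hstat : ∀ i, M (i + 1) = M i → M (i + 2) = M (i + 1)) (h : ∃ m, M m = ⊥) {d : ℕ}
    (hd : topologicalKrullDim G.left ≤ (d : WithBot ℕ∞)) : M (d + 1) = ⊥ := by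
  obtain ⟨m, hm⟩ := h
  choose ξ hξ using fun i => (hcon i).exists_closed
  choose c hc using fun i => H8Props.FieldDim.exists_nat_cdim G.hom (ξ i)
  have hle : ∀ i, c i ≤ d := fun i => by
    have h1 : cdim (ξ i) ≤ topologicalKrullDim G.left := by
      rw [H8Props.FieldDim.dim_eq_iSup_cdim]
      exact le_iSup (fun x : G.left => cdim x) (ξ i)
    have h2 := (hc i ▸ h1).trans hd
    exact_mod_cast h2
  haveI : JacobsonSpace G.left := LocallyOfFiniteType.jacobsonSpace G.hom
  have key : ∀ i, M i = ⊥ ∨ c i + i ≤ d := by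
    intro i
    induction i with
    | zero => exact Or.inr (hle 0)
    | succ i ih =>
      rcases ih with h | h
      · exact Or.inl (le_bot_iff.mp (h ▸ hanti i.le_succ))
      · by_cases he : M (i + 1) = M i
        · have hall : ∀ j, M (i + j) = M i ∧ M (i + j + 1) = M (i + j) := by
            intro j
            induction j with
            | zero => exact ⟨rfl, he⟩
            | succ j ihj => exact ⟨ihj.2.trans ihj.1, hstat _ ihj.2⟩
          left
          rw [he, ← (hall m).1]
          exact le_bot_iff.mp (hm ▸ hanti (Nat.le_add_left m i))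
        · refine Or.inr ?_
          have hsp : ξ i ⤳ ξ (i + 1) := by
            rw [specializes_iff_mem_closure]
            have h1 : closure (closure {ξ (i + 1)} ∩ closedPoints G.left) ⊆ closure {ξ i} := by
              refine closure_minimal ?_ isClosed_closure
              rintro p ⟨hp, hpc⟩
              obtain ⟨g, rfl⟩ := Borel.exists_point p hpc
              exact ((hξ i g).mp (hanti i.le_succ ((hξ _ g).mpr (specializes_iff_mem_closure.mpr hp)))).mem_closure
            rw [closure_inter_closedPoints isClosed_closure] at h1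
            exact h1 (subset_closure rfl)
          have hne : ξ i ≠ ξ (i + 1) := fun e => he (SetLike.ext fun g => by rw [hξ, hξ, e])
          have h1 := H8Props.FieldDim.cdim_lt G.hom hsp hne
          rw [hc, hc] at h1
          have h2 : c (i + 1) < c i := by exact_mod_cast h1
          omega
  rcases key (d + 1) with h | h
  · exact h
  · omega

variable [Smooth G.hom]

/-- The class bound. -/
theorem bound {d c : ℕ} (hd : topologicalKrullDim G.left ≤ (d : WithBot ℕ∞))
    (hc : ENat.card (_root_.ConnectedComponents G.left) ≤ (c : ℕ∞)) :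
    ((∃ m, derivedSeries (pt ⟶ G) m = ⊥) → derivedSeries (pt ⟶ G) (c + (d + 1)) = ⊥) ∧
    ((∃ m, (⊤ : Subgroup (pt ⟶ G)).lowerCentralSeries m = ⊥) →
      (⊤ : Subgroup (pt ⟶ G)).lowerCentralSeries (c + (d + 1)) = ⊥) := by
  haveI : GeometricallyReduced G.hom := H19Grp.geometricallyReduced_of_smooth G.hom
  obtain ⟨inst, hhom⟩ := H19Grp.exists_grpObj_idComp G
  letI := inst
  haveI := hhom
  let ι₀ := H19Grp.idCompι G
  let P₀ : Subgroup (pt ⟶ G) := S6073.pts ι₀
  have he : (η[G] : pt ⟶ G) = 1 := by
    rw [Hom.one_def, Subsingleton.elim (toUnit pt) (𝟙 _), Category.id_comp]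
  have hmem : ∀ g : pt ⟶ G, g ∈ P₀ ↔ g.left pt₀ ∈ connectedComponent (H19Grp.ept G) := fun g => by
    rw [← H19Grp.range_idCompι_ept]
    constructor
    · rintro ⟨x, rfl⟩
      exact ⟨x.left pt₀, (Scheme.Hom.comp_apply _ _ _).symm⟩
    · intro h
      haveI : LocallyOfFiniteType (H19Grp.idComp G).hom := by rw [← Over.w ι₀]; infer_instance
      exact Rational.exists_of_mem_range ι₀ g h
  haveI hn : P₀.Normal := ⟨fun n hn g => by
    rw [hmem] at hn ⊢
    let φ : G ⟶ G := (toUnit G ≫ g) * 𝟙 G * (toUnit G ≫ g)⁻¹
    have hφ : ∀ w : pt ⟶ G, w ≫ φ = g * w * g⁻¹ := fun w => by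
      simp only [φ, MonObj.comp_mul, GrpObj.comp_inv, Category.comp_id, ← Category.assoc,
        Subsingleton.elim (w ≫ toUnit G) (𝟙 pt), Category.id_comp]
    rw [← hφ, Over.comp_left, Scheme.Hom.comp_apply]
    refine (isPreconnected_connectedComponent.image φ.left φ.left.continuous.continuousOn).subset_connectedComponent
      ⟨H19Grp.ept G, mem_connectedComponent, ?_⟩ ⟨_, hn, rfl⟩
    rw [← Scheme.Hom.comp_apply, ← Over.comp_left, hφ, he, _root_.mul_one, mul_inv_cancel, ← he]⟩
  have hP₀ : Con P₀ := by
    haveI : IrreducibleSpace (H19Grp.idComp G).left := by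
      haveI : IrreducibleSpace (Set.range ι₀.left) := by
        rw [H19Grp.range_idCompι_ept]
        exact Subtype.irreducibleSpace (H19Grp.isIrreducible_component G)
      exact ι₀.left.isEmbedding.toHomeomorph.irreducibleSpace_iff.mpr inferInstance
    haveI : IsLocallyNoetherian G.left := LocallyOfFiniteType.isLocallyNoetherian G.hom
    haveI : Flat ι₀.left := H19Grp.flat_clopenIdeal_subschemeι _
    haveI : IsOpenImmersion ι₀.left := IsOpenImmersion.of_flat_of_mono ι₀.left
    haveI : Smooth (H19Grp.idComp G).hom := by rw [← Over.w ι₀]; infer_instance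
    exact ⟨_, ι₀, inferInstance, H19Grp.geometricallyReduced_of_smooth _, inferInstance, rfl⟩
  -- the finite group of components
  haveI : IsLocallyNoetherian G.left := LocallyOfFiniteType.isLocallyNoetherian G.hom
  let π := QuotientGroup.mk' P₀
  let cl : (pt ⟶ G) → _root_.ConnectedComponents G.left := fun g => _root_.ConnectedComponents.mk (g.left pt₀)
  have hcl : ∀ x y, cl x = cl y → π x = π y := fun x y hxy => by
    refine QuotientGroup.eq.mpr ((hmem _).mpr ?_)
    let L : G ⟶ G := (toUnit G ≫ x⁻¹) * 𝟙 G
    have hL : ∀ w : pt ⟶ G, (x⁻¹ * w).left pt₀ = L.left (w.left pt₀) := fun w => by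
      rw [← Scheme.Hom.comp_apply, ← Over.comp_left, MonObj.comp_mul, Category.comp_id, ← Category.assoc,
        Subsingleton.elim (w ≫ toUnit G) (𝟙 pt), Category.id_comp]
    have hy : y.left pt₀ ∈ connectedComponent (x.left pt₀) := by
      rw [_root_.ConnectedComponents.coe_eq_coe.mp hxy]
      exact mem_connectedComponent
    rw [hL y]
    refine (isPreconnected_connectedComponent.image L.left L.left.continuous.continuousOn).subset_connectedComponent
      ⟨x.left pt₀, mem_connectedComponent, ?_⟩ ⟨_, hy, rfl⟩
    rw [← hL x, inv_mul_cancel, ← he]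
  let F : _root_.ConnectedComponents G.left → (pt ⟶ G) ⧸ P₀ := fun C => π (Function.invFun cl C)
  have hF : Function.Surjective F := fun q => by
    obtain ⟨x, rfl⟩ := QuotientGroup.mk'_surjective P₀ q
    exact ⟨cl x, hcl _ _ (Function.invFun_eq ⟨x, rfl⟩)⟩
  haveI : Finite (_root_.ConnectedComponents G.left) := ENat.card_lt_top.mp (hc.trans_lt (ENat.natCast_lt_top c))
  haveI : Finite ((pt ⟶ G) ⧸ P₀) := Finite.of_surjective F hF
  have hcard : Nat.card ((pt ⟶ G) ⧸ P₀) ≤ c := by
    refine (Nat.card_le_card_of_surjective F hF).trans ?_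
    rw [ENat.card_eq_coe_natCard] at hc
    exact_mod_cast hc
  constructor
  · rintro ⟨m, hm⟩
    let M : ℕ → Subgroup (pt ⟶ G) := fun i => (fun H => ⁅H, H⁆)^[i] P₀
    have hM : ∀ i, M (i + 1) = ⁅M i, M i⁆ := fun i => Function.iterate_succ_apply' _ i P₀
    have hcon : ∀ i, Con (M i) := by
      intro i
      induction i with
      | zero => exact hP₀
      | succ i ih =>
        rw [hM]
        obtain ⟨Y, b, _, _, _, hb⟩ := ih.exists_family
        exact ih.commutator Y b hb
    have hanti : Antitone M := antitone_nat_of_succ_le fun i => by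
      induction i with
      | zero => rw [hM]; exact Subgroup.commutator_le_left P₀ P₀
      | succ i ih => rw [hM, hM]; exact Subgroup.commutator_mono (hM i ▸ ih) (hM i ▸ ih)
    have hle : ∀ i, M i ≤ derivedSeries (pt ⟶ G) i := by
      intro i
      induction i with
      | zero => simp
      | succ i ih => rw [hM, derivedSeries_succ]; exact Subgroup.commutator_mono ih ih
    have hbot := chain_eq_bot M hcon hanti
      (fun i hi => (hM (i + 1)).trans ((congrArg (fun H => ⁅H, H⁆) hi).trans (hM i).symm))
      ⟨m, le_bot_iff.mp (hm ▸ hle m)⟩ hd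
    have hq : derivedSeries (pt ⟶ G) c ≤ P₀ := by
      rw [← QuotientGroup.ker_mk' P₀, ← MonoidHom.comap_bot, ← Subgroup.map_le_iff_le_comap,
        map_derivedSeries_eq (QuotientGroup.mk'_surjective P₀)]
      refine (derivedSeries_antitone _ hcard).trans (derivedSeries_card ⟨m, ?_⟩).le
      rw [← map_derivedSeries_eq (QuotientGroup.mk'_surjective P₀), hm, Subgroup.map_bot]
    have hall : ∀ i, derivedSeries (pt ⟶ G) (c + i) ≤ M i := by
      intro i
      induction i with
      | zero => exact hq
      | succ i ih => rw [hM, ← add_assoc, derivedSeries_succ]; exact Subgroup.commutator_mono ih ih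
    exact le_bot_iff.mp (hbot ▸ hall (d + 1))
  · rintro ⟨m, hm⟩
    let M : ℕ → Subgroup (pt ⟶ G) := fun i => (fun H => ⁅H, ⊤⁆)^[i] P₀
    have hM : ∀ i, M (i + 1) = ⁅M i, ⊤⁆ := fun i => Function.iterate_succ_apply' _ i P₀
    have hcon : ∀ i, Con (M i) := by
      intro i
      induction i with
      | zero => exact hP₀
      | succ i ih =>
        rw [hM]
        exact ih.commutator G (𝟙 G) (by ext g; simp)
    have hanti : Antitone M := antitone_nat_of_succ_le fun i => by
      induction i with
      | zero => rw [hM]; exact Subgroup.commutator_le_left P₀ ⊤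
      | succ i ih => rw [hM, hM]; exact Subgroup.commutator_mono (hM i ▸ ih) le_rfl
    have hle : ∀ i, M i ≤ (⊤ : Subgroup (pt ⟶ G)).lowerCentralSeries i := by
      intro i
      induction i with
      | zero => simp
      | succ i ih => rw [hM, Subgroup.lowerCentralSeries_succ]; exact Subgroup.commutator_mono ih le_rfl
    have hbot := chain_eq_bot M hcon hanti
      (fun i hi => (hM (i + 1)).trans ((congrArg (fun H => ⁅H, ⊤⁆) hi).trans (hM i).symm))
      ⟨m, le_bot_iff.mp (hm ▸ hle m)⟩ hd
    have hmap : ∀ i, ((⊤ : Subgroup (pt ⟶ G)).lowerCentralSeries i).map π =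
        (⊤ : Subgroup ((pt ⟶ G) ⧸ P₀)).lowerCentralSeries i := fun i => by
      rw [Subgroup.map_lowerCentralSeries, Subgroup.map_top_of_surjective _ (QuotientGroup.mk'_surjective P₀)]
    have hq : (⊤ : Subgroup (pt ⟶ G)).lowerCentralSeries c ≤ P₀ := by
      rw [← QuotientGroup.ker_mk' P₀, ← MonoidHom.comap_bot, ← Subgroup.map_le_iff_le_comap, hmap]
      refine (Subgroup.lowerCentralSeries_antitone _ hcard).trans (lowerCentralSeries_card ⟨m, ?_⟩).le
      rw [← hmap, hm, Subgroup.map_bot]
    have hall : ∀ i, (⊤ : Subgroup (pt ⟶ G)).lowerCentralSeries (c + i) ≤ M i := by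
      intro i
      induction i with
      | zero => exact hq
      | succ i ih => rw [hM, ← add_assoc, Subgroup.lowerCentralSeries_succ]; exact Subgroup.commutator_mono ih le_rfl
    exact le_bot_iff.mp (hbot ▸ hall (d + 1))

end Groth.Agent.H06GenSub.ClassBound
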