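import Mathlib
import Groth.Agent.H06GenSub.ClassBound
import Groth.Agent.H12AlgSp.LocPCancel
import Groth.Agent.H17.MonoField
import Groth.Agent.S5366
import Groth.Agent.H7Lim.Topology
import Groth.Prelude.Def_Red

/-!
The locus where the iterated commutators of the geometric fibres are trivial.
-/

set_option autoImplicit false
set_option linter.style.haveILetI false
set_option linter.unusedSectionVars false
set_option backward.isDefEq.respectTransparency false

universe u

open CategoryTheory CategoryTheory.Limits MonoidalCategory CartesianMonoidalCategory MonObj GrpObj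
  AlgebraicGeometry TopologicalSpace
open scoped commutatorElement

namespace Groth.Agent.H06GenSub.ClassLocus

open Groth.Agent.H06GenSub.Borel (pt₀)

section bc

variable {S : Scheme.{u}} (G : Over S) [GrpObj G] {K : Type u} [Field K] (y : Spec (CommRingCat.of K) ⟶ S)

/-- The section of the base change of the point. -/
noncomputable def diag : 𝟙_ (Over (Spec (CommRingCat.of K))) ⟶ Red.bc y (Over.mk y) :=
  Over.homMk (pullback.lift (𝟙 _) (𝟙 _) rfl) (pullback.lift_snd _ _ _)

/-- Points over a field valued point and points of the base change agree. -/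
noncomputable def ptsEquiv : (Over.mk y ⟶ G) ≃* (𝟙_ (Over (Spec (CommRingCat.of K))) ⟶ Red.bc y G) :=
  MulEquiv.ofBijective
    (MonoidHom.mk' (fun g => diag y ≫ (Over.pullback y).map g) fun g h => by
      show diag y ≫ (Over.pullback y).map (g * h) = _
      rw [Functor.map_mul, MonObj.comp_mul])
    (by
      have hl : ∀ g : Over.mk y ⟶ G, (diag y ≫ (Over.pullback y).map g).left ≫ pullback.fst G.hom y = g.left := by
        intro g
        show (pullback.lift (𝟙 _) (𝟙 _) rfl ≫ ((Over.pullback y).map g).left) ≫ pullback.fst G.hom y = g.left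
        rw [Category.assoc]
        erw [pullback.lift_fst]
        rw [← Category.assoc]
        erw [pullback.lift_fst]
        exact Category.id_comp _
      refine ⟨fun g h e => Over.OverMorphism.ext ?_, fun φ => ?_⟩
      · rw [← hl g, ← hl h]
        exact congrArg (fun m : _ ⟶ Red.bc y G => m.left ≫ pullback.fst G.hom y) e
      · refine ⟨Over.homMk (φ.left ≫ pullback.fst G.hom y) ?_, Over.OverMorphism.ext ?_⟩
        · show (φ.left ≫ pullback.fst G.hom y) ≫ G.hom = y
          rw [Category.assoc, pullback.condition, ← Category.assoc,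
            show φ.left ≫ pullback.snd G.hom y = 𝟙 _ from Over.w φ, Category.id_comp]
        · refine pullback.hom_ext ?_ ?_
          · exact hl _
          · exact (Over.w _).trans (Over.w φ).symm)

end bc

theorem map_derived {M N : Type*} [Group M] [Group N] (e : M ≃* N) (n : ℕ) :
    derivedSeries M n = ⊥ ↔ derivedSeries N n = ⊥ := by
  rw [← map_derivedSeries_eq (f := e.toMonoidHom) e.surjective n,
    Subgroup.map_eq_bot_iff_of_injective _ e.injective]

theorem map_lower {M N : Type*} [Group M] [Group N] (e : M ≃* N) (n : ℕ) :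
    (⊤ : Subgroup M).lowerCentralSeries n = ⊥ ↔ (⊤ : Subgroup N).lowerCentralSeries n = ⊥ := by
  rw [← Subgroup.map_top_of_surjective e.toMonoidHom e.surjective, ← Subgroup.map_lowerCentralSeries,
    Subgroup.map_eq_bot_iff_of_injective _ e.injective]

section universal

variable {S : Scheme.{u}} {G : Over S} [GrpObj G] [LocallyOfFinitePresentation G.hom] [QuasiCompact G.hom]
  [QuasiSeparated G.hom]

theorem comp_comm {T W : Over S} (t : T ⟶ W) (a b : W ⟶ G) : t ≫ ⁅a, b⁆ = ⁅t ≫ a, t ≫ b⁆ := by
  simp only [commutatorElement_def, MonObj.comp_mul, GrpObj.comp_inv]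

theorem exists_dVal : ∀ n : ℕ, ∃ (W : Over S) (w : W ⟶ G), LocallyOfFinitePresentation W.hom ∧ QuasiCompact W.hom ∧
    QuasiSeparated W.hom ∧ ∀ T : Over S, S5366.dVal (T ⟶ G) n = Set.range fun t : T ⟶ W => t ≫ w
  | 0 => ⟨G, 𝟙 G, inferInstance, inferInstance, inferInstance, fun T => by
      ext g
      exact ⟨fun _ => ⟨g, Category.comp_id g⟩, fun _ => trivial⟩⟩
  | n + 1 => by
    obtain ⟨W, w, hW, hW', hW'', h⟩ := exists_dVal n
    refine ⟨W ⊗ W, ⁅fst W W ≫ w, snd W W ≫ w⁆,
      inferInstanceAs (LocallyOfFinitePresentation (pullback.fst W.hom W.hom ≫ W.hom)),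
      inferInstanceAs (QuasiCompact (pullback.fst W.hom W.hom ≫ W.hom)),
      inferInstanceAs (QuasiSeparated (pullback.fst W.hom W.hom ≫ W.hom)), fun T => ?_⟩
    show Set.image2 _ (S5366.dVal (T ⟶ G) n) (S5366.dVal (T ⟶ G) n) = _
    rw [h T]
    ext g
    constructor
    · rintro ⟨_, ⟨a, rfl⟩, _, ⟨b, rfl⟩, rfl⟩
      exact ⟨lift a b, by simp only [comp_comm, lift_fst_assoc, lift_snd_assoc]⟩
    · rintro ⟨t, rfl⟩
      exact ⟨_, ⟨t ≫ fst W W, rfl⟩, _, ⟨t ≫ snd W W, rfl⟩, by simp only [comp_comm, Category.assoc]⟩

theorem exists_cVal : ∀ n : ℕ, ∃ (W : Over S) (w : W ⟶ G), LocallyOfFinitePresentation W.hom ∧ QuasiCompact W.hom ∧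
    QuasiSeparated W.hom ∧ ∀ T : Over S, S5366.cVal (T ⟶ G) n = Set.range fun t : T ⟶ W => t ≫ w
  | 0 => ⟨G, 𝟙 G, inferInstance, inferInstance, inferInstance, fun T => by
      ext g
      exact ⟨fun _ => ⟨g, Category.comp_id g⟩, fun _ => trivial⟩⟩
  | n + 1 => by
    obtain ⟨W, w, hW, hW', hW'', h⟩ := exists_cVal n
    refine ⟨W ⊗ G, ⁅fst W G ≫ w, snd W G⁆,
      inferInstanceAs (LocallyOfFinitePresentation (pullback.fst W.hom G.hom ≫ W.hom)),
      inferInstanceAs (QuasiCompact (pullback.fst W.hom G.hom ≫ W.hom)),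
      inferInstanceAs (QuasiSeparated (pullback.fst W.hom G.hom ≫ W.hom)), fun T => ?_⟩
    show Set.image2 _ (S5366.cVal (T ⟶ G) n) Set.univ = _
    rw [h T]
    ext g
    constructor
    · rintro ⟨_, ⟨a, rfl⟩, b, -, rfl⟩
      exact ⟨lift a b, by simp only [comp_comm, lift_fst_assoc, lift_snd]⟩
    · rintro ⟨t, rfl⟩
      exact ⟨_, ⟨t ≫ fst W G, rfl⟩, t ≫ snd W G, trivial, by simp only [comp_comm, Category.assoc]⟩

/-- Triviality on geometric points is checked topologically against the unit section. -/
theorem trivial_eq {W : Over S} [LocallyOfFinitePresentation W.hom] (w : W ⟶ G) :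
    {s : S | ∀ t : Over.mk (Red.geomPt s) ⟶ W, t ≫ w = 1} =
      (W.hom '' (w.left ⁻¹' Set.range η[G].left)ᶜ)ᶜ := by
  let e : S ⟶ G.left := η[G].left
  have hee : e ≫ G.hom = 𝟙 S := Over.w η[G]
  haveI : IsImmersion e := by
    haveI : IsImmersion (e ≫ G.hom) := by rw [hee]; infer_instance
    exact IsImmersion.of_comp e G.hom
  let A : Set W.left := w.left ⁻¹' Set.range e
  change _ = (W.hom '' Aᶜ)ᶜ
  ext s
  have hgs : ∀ z, Red.geomPt s z = s := fun z =>
    (Scheme.Hom.comp_apply _ _ _).trans (S.fromSpecResidueField_apply s _)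
  constructor
  · rintro hs ⟨z, hz, rfl⟩
    let K := AlgebraicClosure (S.residueField (W.hom z))
    let Fb := Red.bc (Red.geomPt (W.hom z)) W
    haveI : LocallyOfFiniteType Fb.hom :=
      inferInstanceAs (LocallyOfFiniteType (pullback.snd W.hom (Red.geomPt (W.hom z))))
    haveI : JacobsonSpace Fb.left := LocallyOfFiniteType.jacobsonSpace Fb.hom
    let π : Fb.left ⟶ W.left := pullback.fst W.hom (Red.geomPt (W.hom z))
    have hA' : IsLocallyClosed (π ⁻¹' A) :=
      ((e.isLocallyClosed_range.preimage w.left.continuous).preimage π.continuous)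
    have hcl : closedPoints Fb.left ⊆ π ⁻¹' A := fun c hc => by
      obtain ⟨p, hp⟩ := Borel.exists_point c hc
      let t : Over.mk (Red.geomPt (W.hom z)) ⟶ W := Over.homMk (p.left ≫ π) (by
        show (p.left ≫ pullback.fst W.hom (Red.geomPt (W.hom z))) ≫ W.hom = _
        rw [Category.assoc, pullback.condition, ← Category.assoc,
          show p.left ≫ pullback.snd W.hom (Red.geomPt (W.hom z)) = 𝟙 _ from Over.w p, Category.id_comp]
        rfl)
      show w.left (π c) ∈ Set.range e
      refine ⟨Red.geomPt (W.hom z) pt₀, ?_⟩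
      rw [← hp, ← Scheme.Hom.comp_apply, ← Scheme.Hom.comp_apply, ← Scheme.Hom.comp_apply,
        ← Category.assoc, show (p.left ≫ π) ≫ w.left = (t ≫ w).left from rfl, hs t, Hom.one_def]
      rfl
    have huniv : π ⁻¹' A = Set.univ := by
      have hd : closure (π ⁻¹' A) = Set.univ :=
        Set.univ_subset_iff.mp (closure_closedPoints (X := Fb.left) ▸ closure_mono hcl)
      have ho : IsOpen (π ⁻¹' A) := by
        obtain ⟨U, Z, hU, hZ, hUZ⟩ := hA'
        have hZu : Z = Set.univ := Set.univ_subset_iff.mp
          (hd ▸ closure_minimal (hUZ ▸ Set.inter_subset_right) hZ)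
        rw [hUZ, hZu, Set.inter_univ]
        exact hU
      by_contra hne
      obtain ⟨c, hc, hcc⟩ := nonempty_inter_closedPoints (Set.nonempty_compl.mpr hne)
        ho.isClosed_compl.isLocallyClosed
      exact hc (hcl hcc)
    obtain ⟨c, hc, -⟩ := Scheme.Pullback.exists_preimage_pullback (f := W.hom) (g := Red.geomPt (W.hom z))
      z pt₀ (hgs _).symm
    exact hz (by rw [← hc]; exact huniv.ge (Set.mem_univ c))
  · intro hs t
    have hts : W.hom (t.left pt₀) = s := by
      rw [← Scheme.Hom.comp_apply, Over.w t]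
      exact hgs _
    have hmem : (t ≫ w).left (IsLocalRing.closedPoint _) ∈ Set.range e := by
      rw [Over.comp_left, Scheme.Hom.comp_apply]
      by_contra h
      exact hs ⟨t.left pt₀, h, hts⟩
    obtain ⟨l, hl⟩ := H17.MonoField.exists_lift_of_mem_range e (t ≫ w).left hmem
    refine Over.OverMorphism.ext ?_
    have hlw : l = Red.geomPt s := by
      have h1 : l ≫ e ≫ G.hom = (t ≫ w).left ≫ G.hom := by rw [← Category.assoc, hl]
      rw [hee, Category.comp_id, Over.w (t ≫ w)] at h1
      exact h1
    rw [← hl, hlw, Hom.one_def, Over.comp_left]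
    rfl

/-- The points of the base over which a morphism is trivial on geometric points form a constructible set. -/
theorem isLocallyConstructible_trivial {W : Over S} [LocallyOfFinitePresentation W.hom] [QuasiCompact W.hom]
    [QuasiSeparated W.hom] (w : W ⟶ G) :
    Topology.IsLocallyConstructible {s : S | ∀ t : Over.mk (Red.geomPt s) ⟶ W, t ≫ w = 1} := by
  let e : S ⟶ G.left := η[G].left
  have hee : e ≫ G.hom = 𝟙 S := Over.w η[G]
  haveI : IsImmersion e := by
    haveI : IsImmersion (e ≫ G.hom) := by rw [hee]; infer_instance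
    exact IsImmersion.of_comp e G.hom
  haveI : LocallyOfFinitePresentation e := by
    haveI : LocallyOfFinitePresentation (e ≫ G.hom) := by rw [hee]; infer_instance
    exact H12AlgSp.lfp_of_comp e G.hom
  haveI : QuasiCompact e := by
    haveI : QuasiCompact (e ≫ G.hom) := by rw [hee]; infer_instance
    exact .of_comp e G.hom
  let A : Set W.left := w.left ⁻¹' Set.range e
  have hA : Topology.IsLocallyConstructible A := by
    refine H7Lim.isLocallyConstructible_preimage ?_ w.left
    rw [← Set.image_univ]
    exact e.isLocallyConstructible_image (IsRetrocompact.univ.isLocallyConstructible isOpen_univ)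
  have hset := trivial_eq w
  rw [hset]
  exact H7Lim.isLocallyConstructible_compl (W.hom.isLocallyConstructible_image (H7Lim.isLocallyConstructible_compl hA))

/-- Over a base on which the source is universally open and the target separated, this set is closed. -/
theorem isClosed_trivial {W : Over S} [LocallyOfFinitePresentation W.hom] [Flat W.hom] [IsSeparated G.hom]
    (w : W ⟶ G) : IsClosed {s : S | ∀ t : Over.mk (Red.geomPt s) ⟶ W, t ≫ w = 1} := by
  rw [trivial_eq w]
  haveI : IsClosedImmersion η[G].left := by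
    haveI : IsClosedImmersion (η[G].left ≫ G.hom) := by
      haveI : IsIso (η[G].left ≫ G.hom) := by
        rw [show η[G].left ≫ G.hom = 𝟙 S from Over.w η[G]]; exact inferInstanceAs (IsIso (𝟙 S))
      infer_instance
    exact IsClosedImmersion.of_comp η[G].left G.hom
  haveI : UniversallyOpen W.hom := UniversallyOpen.of_flat W.hom
  exact (W.hom.isOpenMap _
    ((η[G].left.isClosedEmbedding.isClosed_range.preimage w.left.continuous).isOpen_compl)).isClosed_compl

end universal

end Groth.Agent.H06GenSub.ClassLocus
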