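import Mathlib
import Groth.Agent.H06GenSub.ClassLocus
import Groth.Agent.S5367

/-!
Closedness of the loci of solvable and of nilpotent geometric fibres.
-/

set_option autoImplicit false
set_option linter.style.haveILetI false
set_option linter.unusedSectionVars false
set_option backward.isDefEq.respectTransparency false

universe u

open CategoryTheory CategoryTheory.Limits MonoidalCategory CartesianMonoidalCategory MonObj GrpObj
  AlgebraicGeometry TopologicalSpace SGA3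
open scoped commutatorElement

namespace Groth.Agent.H06GenSub.ClassLocus

variable {S : Scheme.{u}} {G : Over S} [GrpObj G] [Smooth G.hom] [QuasiCompact G.hom] [IsSeparated G.hom]

theorem exists_dVal_smooth : ∀ n : ℕ, ∃ (W : Over S) (w : W ⟶ G), Smooth W.hom ∧ QuasiCompact W.hom ∧
    ∀ T : Over S, S5366.dVal (T ⟶ G) n = Set.range fun t : T ⟶ W => t ≫ w
  | 0 => ⟨G, 𝟙 G, inferInstance, inferInstance, fun T => by
      ext g
      exact ⟨fun _ => ⟨g, Category.comp_id g⟩, fun _ => trivial⟩⟩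
  | n + 1 => by
    obtain ⟨W, w, hW, hW', h⟩ := exists_dVal_smooth n
    refine ⟨W ⊗ W, ⁅fst W W ≫ w, snd W W ≫ w⁆,
      inferInstanceAs (Smooth (pullback.fst W.hom W.hom ≫ W.hom)),
      inferInstanceAs (QuasiCompact (pullback.fst W.hom W.hom ≫ W.hom)), fun T => ?_⟩
    show Set.image2 _ (S5366.dVal (T ⟶ G) n) (S5366.dVal (T ⟶ G) n) = _
    rw [h T]
    ext g
    constructor
    · rintro ⟨_, ⟨a, rfl⟩, _, ⟨b, rfl⟩, rfl⟩
      exact ⟨lift a b, by simp only [comp_comm, lift_fst_assoc, lift_snd_assoc]⟩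
    · rintro ⟨t, rfl⟩
      exact ⟨_, ⟨t ≫ fst W W, rfl⟩, _, ⟨t ≫ snd W W, rfl⟩, by simp only [comp_comm, Category.assoc]⟩

theorem exists_cVal_smooth : ∀ n : ℕ, ∃ (W : Over S) (w : W ⟶ G), Smooth W.hom ∧ QuasiCompact W.hom ∧
    ∀ T : Over S, S5366.cVal (T ⟶ G) n = Set.range fun t : T ⟶ W => t ≫ w
  | 0 => ⟨G, 𝟙 G, inferInstance, inferInstance, fun T => by
      ext g
      exact ⟨fun _ => ⟨g, Category.comp_id g⟩, fun _ => trivial⟩⟩
  | n + 1 => by
    obtain ⟨W, w, hW, hW', h⟩ := exists_cVal_smooth n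
    refine ⟨W ⊗ G, ⁅fst W G ≫ w, snd W G⁆,
      inferInstanceAs (Smooth (pullback.fst W.hom G.hom ≫ W.hom)),
      inferInstanceAs (QuasiCompact (pullback.fst W.hom G.hom ≫ W.hom)), fun T => ?_⟩
    show Set.image2 _ (S5366.cVal (T ⟶ G) n) Set.univ = _
    rw [h T]
    ext g
    constructor
    · rintro ⟨_, ⟨a, rfl⟩, b, -, rfl⟩
      exact ⟨lift a b, by simp only [comp_comm, lift_fst_assoc, lift_snd]⟩
    · rintro ⟨t, rfl⟩
      exact ⟨_, ⟨t ≫ fst W G, rfl⟩, t ≫ snd W G, trivial, by simp only [comp_comm, Category.assoc]⟩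

theorem smooth_fibres (s : S) : Smooth (G.hom.fiberToSpecResidueField s) :=
  inferInstanceAs (Smooth (pullback.snd G.hom (S.fromSpecResidueField s)))

/-- A set which agrees with a closed set near each point is closed. -/
theorem isClosed_of_nhds {T : Type u} [TopologicalSpace T] (A : Set T)
    (h : ∀ x, ∃ (U B : Set T), x ∈ U ∧ IsOpen U ∧ IsClosed B ∧ U ∩ A = U ∩ B) : IsClosed A := by
  rw [← isOpen_compl_iff, isOpen_iff_forall_mem_open]
  intro x hx
  obtain ⟨U, B, hxU, hU, hB, he⟩ := h x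
  refine ⟨U ∩ Bᶜ, fun y hy hyA => hy.2 (he.le ⟨hy.1, hyA⟩).2, hU.inter hB.isOpen_compl, hxU, fun hxB => ?_⟩
  exact hx (he.ge ⟨hxU, hxB⟩).2

/-- The points whose geometric fibre is solvable form a closed set. -/
theorem isClosed_solvable : IsClosed {s : S | Red.IsSolvableGrp (Red.geomFibre s G)} := by
  refine isClosed_of_nhds _ fun s₀ => ?_
  obtain ⟨U, n, hs₀, -, hn⟩ := S5367.exists_bound G smooth_fibres s₀
  obtain ⟨W, w, _, _, hd⟩ := exists_dVal_smooth (G := G) n
  refine ⟨U, _, hs₀, U.2, isClosed_trivial w, ?_⟩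
  ext s
  refine and_congr_right fun hs => ?_
  rw [Set.mem_setOf_eq, Set.mem_setOf_eq, S5367.solvable_iff G smooth_fibres s]
  have hiff : derivedSeries (Over.mk (Red.geomPt s) ⟶ G) n = ⊥ ↔
      ∀ t : Over.mk (Red.geomPt s) ⟶ W, t ≫ w = 1 := by
    rw [S5366.derivedSeries_eq, hd, S5366.closure_eq_bot_iff_forall, Set.forall_mem_range]
  exact ⟨fun h => hiff.mp ((hn s hs).1 h), fun h => ⟨n, hiff.mpr h⟩⟩

/-- The points whose geometric fibre is nilpotent form a closed set. -/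
theorem isClosed_nilpotent : IsClosed {s : S | AGF.IsNilpotentGrp (Red.geomFibre s G)} := by
  refine isClosed_of_nhds _ fun s₀ => ?_
  obtain ⟨U, n, hs₀, -, hn⟩ := S5367.exists_bound G smooth_fibres s₀
  obtain ⟨W, w, _, _, hd⟩ := exists_cVal_smooth (G := G) n
  refine ⟨U, _, hs₀, U.2, isClosed_trivial w, ?_⟩
  ext s
  refine and_congr_right fun hs => ?_
  rw [Set.mem_setOf_eq, Set.mem_setOf_eq, S5367.nilpotent_iff G smooth_fibres s]
  have hiff : (⊤ : Subgroup (Over.mk (Red.geomPt s) ⟶ G)).lowerCentralSeries n = ⊥ ↔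
      ∀ t : Over.mk (Red.geomPt s) ⟶ W, t ≫ w = 1 := by
    rw [S5366.lowerCentralSeries_eq, hd, S5366.closure_eq_bot_iff_forall, Set.forall_mem_range]
  exact ⟨fun h => hiff.mp ((hn s hs).2 h), fun h => ⟨n, hiff.mpr h⟩⟩

end Groth.Agent.H06GenSub.ClassLocus
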