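import Mathlib
import Groth.Agent.H06GenSub.AdjPts
import Groth.Agent.H06GenSub.Commutator
import Groth.Agent.S6073
import Groth.Agent.H19Grp.ImageGroup
import Groth.Agent.H19Grp.QuasiFiniteHom
import Groth.Agent.H28NT.GoodReduction

/-!
Commutator subgroups of smooth subgroups over an arbitrary field: bounded words, connectedness, normality.
-/

set_option autoImplicit false
set_option linter.style.haveILetI false
set_option linter.unusedSectionVars false
set_option backward.isDefEq.respectTransparency false

universe u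

open CategoryTheory CategoryTheory.Limits MonoidalCategory CartesianMonoidalCategory MonObj GrpObj
  AlgebraicGeometry TopologicalSpace
open scoped commutatorElement CategoryTheory.Obj

namespace Groth.Agent.H06GenSub.CommField

open Groth.Agent.H06GenSub.Adj

variable {k : Type u} [Field k]

local notation "pt'" => 𝟙_ (Over (Spec (CommRingCat.of k)))

theorem surjective_to_point {Y : Scheme.{u}} [Nonempty Y] (f : Y ⟶ Spec (CommRingCat.of k)) : Surjective f := by
  haveI : Subsingleton (Spec (CommRingCat.of k)) := inferInstanceAs (Subsingleton (PrimeSpectrum k))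
  exact ⟨fun _ => ⟨Classical.arbitrary _, Subsingleton.elim _ _⟩⟩

theorem geometricallyConnected_grp (A : Over (Spec (CommRingCat.of k))) [GrpObj A] [ConnectedSpace A.left] :
    GeometricallyConnected A.hom :=
  H28NT.geometricallyConnected_of_section A.hom η[A].left (Over.w η[A])

variable {G A B : Over (Spec (CommRingCat.of k))} [GrpObj G] [GrpObj A] [GrpObj B]
  [LocallyOfFiniteType G.hom] [LocallyOfFiniteType A.hom] [LocallyOfFiniteType B.hom]
  [QuasiCompact A.hom] [QuasiCompact B.hom] [GeometricallyReduced A.hom] [GeometricallyReduced B.hom]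
  (a : A ⟶ G) [IsMonHom a] [IsImmersion a.left] (b : B ⟶ G) [IsMonHom b] [IsImmersion b.left]

/-- Over a field an immersed quasi-compact subgroup scheme is closed. -/
theorem isClosedImmersion_sub : IsClosedImmersion a.left := by
  haveI : IsSeparated G.hom := H19Grp.AffineQuotient.isSeparated_of_grp G
  haveI : QuasiCompact (a.left ≫ G.hom) := by rw [Over.w a]; infer_instance
  haveI : QuasiCompact a.left := .of_comp a.left G.hom
  haveI : Mono a := Over.mono_of_mono_left _
  exact H19Grp.QuasiFiniteHom.isClosedImmersion_of_mono a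

/-- Commutators of smooth subgroups have bounded width over any field. -/
theorem exists_bound (hcase : ConnectedSpace A.left ∨ (AlgGrp.IsNormalHom a ∧ AlgGrp.IsNormalHom b)) :
    ∃ N : ℕ, (⋃ n, lenSet (comm a b) n) ⊆ closure (lenSet (comm a b) N) := by
  let K := AlgebraicClosure k
  let σ : Spec (CommRingCat.of K) ⟶ Spec (CommRingCat.of k) := Spec.map (CommRingCat.ofHom (algebraMap k K))
  let F := Over.pullback σ
  haveI : Surjective σ := surjective_to_point σ
  haveI : LocallyOfFiniteType (Red.bc σ G).hom := inferInstanceAs (LocallyOfFiniteType (pullback.snd G.hom σ))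
  haveI : LocallyOfFiniteType (Red.bc σ A).hom := inferInstanceAs (LocallyOfFiniteType (pullback.snd A.hom σ))
  haveI : LocallyOfFiniteType (Red.bc σ B).hom := inferInstanceAs (LocallyOfFiniteType (pullback.snd B.hom σ))
  haveI : QuasiCompact (Red.bc σ A).hom := inferInstanceAs (QuasiCompact (pullback.snd A.hom σ))
  haveI : QuasiCompact (Red.bc σ B).hom := inferInstanceAs (QuasiCompact (pullback.snd B.hom σ))
  haveI : GeometricallyReduced (Red.bc σ A).hom := inferInstanceAs (GeometricallyReduced (pullback.snd A.hom σ))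
  haveI : GeometricallyReduced (Red.bc σ B).hom := inferInstanceAs (GeometricallyReduced (pullback.snd B.hom σ))
  have hbound : ∃ N : ℕ, (⋃ n, lenSet (comm (F.map a) (F.map b)) n) ⊆
      closure (lenSet (comm (F.map a) (F.map b)) N) := by
    rcases hcase with hA | ⟨hA, hB⟩
    · haveI := geometricallyConnected_grp A
      haveI : ConnectedSpace (Red.bc σ A).left :=
        GeometricallyConnected.connectedSpace_of_subsingleton (f := pullback.snd A.hom σ)
      exact Commutator.exists_bound (F.map a) (F.map b)
        (Or.inl ⟨inferInstance, (1 : 𝟙_ (Over (Spec (CommRingCat.of K))) ⟶ Red.bc σ A), MonObj.one_comp _⟩)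
    · haveI := isClosedImmersion_sub a
      haveI := isClosedImmersion_sub b
      haveI : IsClosedImmersion (F.map a).left := by
        have h : IsPullback (pullback.fst A.hom σ) (F.map a).left a.left (pullback.fst G.hom σ) := by
          refine IsPullback.of_bot (v₂₁ := pullback.snd G.hom σ) (v₂₂ := G.hom) (h₃₁ := σ) ?_
            (by simp [F]) (IsPullback.of_hasPullback _ _)
          rw [Over.w a, show (F.map a).left ≫ pullback.snd G.hom σ = pullback.snd A.hom σ from Over.w (F.map a)]
          exact IsPullback.of_hasPullback _ _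
        exact MorphismProperty.of_isPullback (P := @IsClosedImmersion) h inferInstance
      haveI : IsClosedImmersion (F.map b).left := by
        have h : IsPullback (pullback.fst B.hom σ) (F.map b).left b.left (pullback.fst G.hom σ) := by
          refine IsPullback.of_bot (v₂₁ := pullback.snd G.hom σ) (v₂₂ := G.hom) (h₃₁ := σ) ?_
            (by simp [F]) (IsPullback.of_hasPullback _ _)
          rw [Over.w b, show (F.map b).left ≫ pullback.snd G.hom σ = pullback.snd B.hom σ from Over.w (F.map b)]
          exact IsPullback.of_hasPullback _ _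
        exact MorphismProperty.of_isPullback (P := @IsClosedImmersion) h inferInstance
      exact S6073.exists_bound_normal (F.map a) (F.map b) (isNormalHom_bc σ a hA) (isNormalHom_bc σ b hB)
  obtain ⟨N, hN⟩ := hbound
  refine ⟨N, Set.iUnion_subset fun n g hg => ?_⟩
  obtain ⟨z, rfl⟩ := (pullback.fst G.hom σ).surjective g
  have h1 := hN (Set.mem_iUnion.mpr ⟨n, (mem_lenSet_comm_bc σ a b n z).mpr hg⟩)
  refine closure_mono ?_ (image_closure_subset_closure_image (pullback.fst G.hom σ).continuous ⟨z, h1, rfl⟩)
  rintro _ ⟨w, hw, rfl⟩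
  exact (mem_lenSet_comm_bc σ a b N w).mp hw

/-- An image of a product with a connected factor is preconnected when the image of a section is. -/
theorem isPreconnected_range_of_section {X Y : Over (Spec (CommRingCat.of k))} [GeometricallyConnected X.hom]
    (x : pt' ⟶ X) (φ : X ⊗ Y ⟶ G)
    (h : _root_.IsPreconnected (Set.range (lift (toUnit Y ≫ x) (𝟙 Y) ≫ φ).left)) :
    _root_.IsPreconnected (Set.range φ.left) := by
  let s := lift (toUnit Y ≫ x) (𝟙 Y)
  rcases isEmpty_or_nonempty Y.left with hY | ⟨⟨y₀⟩⟩
  · haveI : IsEmpty (X ⊗ Y).left := ⟨fun z => hY.false ((snd X Y).left z)⟩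
    rw [Set.range_eq_empty]
    exact isPreconnected_empty
  refine isPreconnected_of_forall ((s ≫ φ).left y₀) ?_
  rintro _ ⟨z, rfl⟩
  haveI : GeometricallyConnected (snd X Y).left :=
    inferInstanceAs (GeometricallyConnected (pullback.snd X.hom Y.hom))
  let y := (snd X Y).left z
  let F := (snd X Y).left ⁻¹' {y}
  have hsy : s.left y ∈ F := by
    show (snd X Y).left (s.left y) = y
    rw [← Scheme.Hom.comp_apply, ← Over.comp_left, lift_snd]
    rfl
  refine ⟨φ.left '' F ∪ Set.range (s ≫ φ).left,
    Set.union_subset (Set.image_subset_range _ _) ?_, Or.inr ⟨y₀, rfl⟩, Or.inl ⟨z, rfl, rfl⟩, ?_⟩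
  · rintro _ ⟨t, rfl⟩
    exact ⟨s.left t, (Scheme.Hom.comp_apply _ _ _).symm⟩
  · exact ((snd X Y).left.isConnected_preimage_singleton y).isPreconnected.image _
      φ.left.continuous.continuousOn |>.union' ⟨φ.left (s.left y), ⟨_, hsy, rfl⟩,
        ⟨y, Scheme.Hom.comp_apply _ _ _⟩⟩ h

/-- Words in the commutators of a connected subgroup form a connected set. -/
theorem isPreconnected_range_word [ConnectedSpace A.left] :
    ∀ l : List (PUnit.{u+1} × Bool), _root_.IsPreconnected (Set.range (word (X := fun _ : PUnit.{u+1} => A ⊗ B)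
        (single (comm a b)) l).left) ∧
      ∃ v : pt' ⟶ wordSrc (fun _ : PUnit.{u+1} => A ⊗ B) l, v ≫ word (single (comm a b)) l = 1
  | [] => by
    refine ⟨?_, ⟨toUnit _, MonObj.comp_one _⟩⟩
    haveI : Subsingleton (wordSrc (fun _ : PUnit.{u+1} => A ⊗ B) ([] : List (PUnit.{u+1} × Bool))).left :=
      inferInstanceAs (Subsingleton (PrimeSpectrum k))
    exact Set.Subsingleton.isPreconnected (Set.subsingleton_range _)
  | (j, ε) :: l => by
    obtain ⟨hl, v, hv⟩ := isPreconnected_range_word l
    let W := wordSrc (fun _ : PUnit.{u+1} => A ⊗ B) l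
    let w : W ⟶ G := word (single (comm a b)) l
    let φ : (A ⊗ B) ⊗ W ⟶ G := word (single (comm a b)) ((j, ε) :: l)
    have hφ : φ = sgn ε (fst (A ⊗ B) W ≫ comm a b) * (snd (A ⊗ B) W ≫ w) := rfl
    refine ⟨?_, lift (lift 1 1) v, ?_⟩
    · show _root_.IsPreconnected (Set.range φ.left)
      haveI := geometricallyConnected_grp A
      have e : Set.range φ.left = Set.range ((α_ A B W).inv ≫ φ).left := by
        refine Set.Subset.antisymm ?_ (by rw [Over.comp_left]; rintro _ ⟨t, rfl⟩; exact ⟨_, (Scheme.Hom.comp_apply _ _ _).symm⟩)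
        rintro _ ⟨t, rfl⟩
        exact ⟨(α_ A B W).hom.left t, by
          rw [← Scheme.Hom.comp_apply, ← Over.comp_left, Iso.hom_inv_id_assoc]⟩
      rw [e]
      refine isPreconnected_range_of_section (1 : pt' ⟶ A) _ ?_
      have e2 : lift (toUnit (B ⊗ W) ≫ (1 : pt' ⟶ A)) (𝟙 (B ⊗ W)) ≫ (α_ A B W).inv ≫ φ = snd B W ≫ w := by
        have e3 : lift (toUnit (B ⊗ W) ≫ (1 : pt' ⟶ A)) (𝟙 (B ⊗ W)) ≫ (α_ A B W).inv =
            lift (lift 1 (fst B W)) (snd B W) := by
          apply CartesianMonoidalCategory.hom_ext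
          · apply CartesianMonoidalCategory.hom_ext <;> simp
          · simp
        rw [reassoc_of% e3, hφ, MonObj.comp_mul, comp_sgn, lift_fst_assoc, lift_snd_assoc, lift_comm,
          MonObj.one_comp, commutatorElement_one_left]
        cases ε <;> simp [sgn]
      rw [e2]
      haveI : Nonempty B.left := ⟨η[B].left (IsLocalRing.closedPoint k)⟩
      haveI : Surjective B.hom := surjective_to_point _
      haveI : Surjective (snd B W).left := inferInstanceAs (Surjective (pullback.snd B.hom W.hom))
      rw [Over.comp_left, Scheme.Hom.comp_base, TopCat.coe_comp,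
        Set.range_comp, Set.range_eq_univ.mpr (snd B W).left.surjective, Set.image_univ]
      exact hl
    · show lift (lift 1 1) v ≫ φ = 1
      rw [hφ, MonObj.comp_mul, comp_sgn, lift_fst_assoc, lift_snd_assoc, lift_comm, MonObj.one_comp,
        commutatorElement_one_left, hv]
      cases ε <;> simp [sgn]

instance : GeometricallyReduced (A ⊗ B).hom := geometricallyReduced_tensor

/-- The commutator subgroup of a connected subgroup is connected. -/
theorem connectedSpace_gen [ConnectedSpace A.left] :
    ConnectedSpace (gen (X := fun _ : PUnit.{u+1} => A ⊗ B) (single (comm a b))).left := by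
  let e : G.left := (1 : pt' ⟶ G).left (IsLocalRing.closedPoint k)
  have he : ∀ l, e ∈ Set.range (word (X := fun _ : PUnit.{u+1} => A ⊗ B) (single (comm a b)) l).left := fun l => by
    obtain ⟨v, hv⟩ := (isPreconnected_range_word a b l).2
    exact ⟨v.left (IsLocalRing.closedPoint k), by rw [← Scheme.Hom.comp_apply, ← Over.comp_left, hv]⟩
  have hw : _root_.IsConnected (wordSet (X := fun _ : PUnit.{u+1} => A ⊗ B) (single (comm a b))) :=
    ⟨⟨e, Set.mem_iUnion.mpr ⟨[], he []⟩⟩, isPreconnected_iUnion ⟨e, Set.mem_iInter.mpr he⟩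
      fun l => (isPreconnected_range_word a b l).1⟩
  have hcl := hw.closure
  rw [← range_genι, ← Set.image_univ] at hcl
  rw [connectedSpace_iff_univ]
  refine ⟨hcl.nonempty.of_image, ?_⟩
  exact (genι (X := fun _ : PUnit.{u+1} => A ⊗ B) (single (comm a b))).left.isEmbedding.isInducing
    |>.isPreconnected_image.mp hcl.isPreconnected

theorem isWord_conj (hA : AlgGrp.IsNormalHom a) (hB : AlgGrp.IsNormalHom b) {T : Over (Spec (CommRingCat.of k))}
    (g : T ⟶ G) {w : T ⟶ G} (h : IsWord (X := fun _ : PUnit.{u+1} => A ⊗ B) (single (comm a b)) w) :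
    IsWord (X := fun _ : PUnit.{u+1} => A ⊗ B) (single (comm a b)) (g * w * g⁻¹) := by
  obtain ⟨l, v, rfl⟩ := h
  induction l with
  | nil =>
    rw [show v ≫ word (single (comm a b)) [] = (1 : T ⟶ G) from MonObj.comp_one _, _root_.mul_one,
      mul_inv_cancel]
    exact isWord_one
  | cons p l ih =>
    rw [comp_word_cons, ← conj_mul]
    let x : T ⟶ A ⊗ B := v ≫ fst (A ⊗ B) (wordSrc (fun _ : PUnit.{u+1} => A ⊗ B) l)
    obtain ⟨x', hx'⟩ := hA T g (x ≫ fst A B)
    obtain ⟨y', hy'⟩ := hB T g (x ≫ snd A B)
    have e : g * (x ≫ comm a b) * g⁻¹ = lift x' y' ≫ comm a b := by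
      rw [lift_comm, comp_comm, conjugate_commutatorElement, hx', hy']
    have e' : g * sgn p.2 (x ≫ comm a b) * g⁻¹ = sgn p.2 (lift x' y' ≫ comm a b) := by
      rw [← e]
      cases p.2 <;> simp [sgn, _root_.mul_assoc]
    refine isWord_mul ?_ (ih _)
    show IsWord _ (g * sgn p.2 (x ≫ comm a b) * g⁻¹)
    rw [e']
    exact isWord_sgn (f := single (comm a b)) (j := PUnit.unit) p.2 (lift x' y')

/-- The commutator subgroup of normal subgroups is normal. -/
theorem isNormalHom_gen (hA : AlgGrp.IsNormalHom a) (hB : AlgGrp.IsNormalHom b)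
    [GrpObj (gen (X := fun _ : PUnit.{u+1} => A ⊗ B) (single (comm a b)))] :
    AlgGrp.IsNormalHom (genι (X := fun _ : PUnit.{u+1} => A ⊗ B) (single (comm a b))) := by
  let f : PUnit.{u+1} → (A ⊗ B ⟶ G) := single (comm a b)
  let Γ := gen f
  obtain ⟨cj, hcj⟩ := exists_factor (dominant_tensor (dominant_wordLift f) G) (genι f)
    (snd Γ G * (fst Γ G ≫ genι f) * (snd Γ G)⁻¹) fun l => by
      obtain ⟨v, hv⟩ := factor_gen_of_isWord f (isWord_conj a b hA hB (snd (wordSrc (fun _ => A ⊗ B) l) G)
        (isWord_comp (fst (wordSrc (fun _ => A ⊗ B) l) G) (isWord_word (f := f) l)))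
      refine ⟨v, ?_⟩
      rw [hv, MonObj.comp_mul, MonObj.comp_mul, GrpObj.comp_inv, whiskerRight_snd, whiskerRight_fst_assoc,
        wordLift_ι]
  intro T g n
  refine ⟨lift n g ≫ cj, ?_⟩
  rw [Category.assoc, hcj, MonObj.comp_mul, MonObj.comp_mul, GrpObj.comp_inv, lift_snd, lift_fst_assoc]

end Groth.Agent.H06GenSub.CommField
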