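import Mathlib
import Groth.Agent.H06GenSub.CommField
import Groth.Agent.H06GenSub.CommSpread
import Groth.Agent.H19Grp.Cartier
import Groth.Agent.S0420
import Groth.Agent.S0434

/-!
The commutator subgroup of two subgroup schemes over an open subscheme of an integral base, in a form stable
under base change.
-/

set_option autoImplicit false
set_option linter.style.haveILetI false
set_option linter.unusedSectionVars false
set_option backward.isDefEq.respectTransparency false
set_option synthInstance.maxHeartbeats 100000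

universe u

open CategoryTheory CategoryTheory.Limits MonoidalCategory CartesianMonoidalCategory MonObj GrpObj
  AlgebraicGeometry
open scoped commutatorElement CategoryTheory.Obj

namespace Groth.Agent.H06GenSub.CommMain

open Groth.Agent.H06GenSub.CommField

/-- A closed subscheme is the commutator of two morphisms, in a form stable under base change. -/
def IsComm {S : Scheme.{u}} {G D A B : Over S} [GrpObj G] (d : D ⟶ G) (a : A ⟶ G) (b : B ⟶ G) : Prop :=
  (∃ c, c ≫ d = Adj.comm a b) ∧ (∃ M : ℕ, ∀ y, d.left y ∈ lenSet (Adj.comm a b) M) ∧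
    GeometricallyReduced D.hom

theorem map_apply {S S' : Scheme.{u}} (σ : S' ⟶ S) {X Y : Over S} (f : X ⟶ Y) (w : (Red.bc σ X).left) :
    pullback.fst Y.hom σ (((Over.pullback σ).map f).left w) = f.left (pullback.fst X.hom σ w) :=
  (Scheme.Hom.comp_apply _ _ w).symm.trans
    ((congrArg (fun g : (Red.bc σ X).left ⟶ Y.left => g w) (CommSpread.isPullback_map σ f).w.symm).trans
      (Scheme.Hom.comp_apply _ _ w))

/-- Commutators are compatible with base change. -/
theorem IsComm.bc {S S' : Scheme.{u}} (σ : S' ⟶ S) {G D A B : Over S} [GrpObj G] {d : D ⟶ G} {a : A ⟶ G}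
    {b : B ⟶ G} (h : IsComm d a b) :
    IsComm ((Over.pullback σ).map d) ((Over.pullback σ).map a) ((Over.pullback σ).map b) := by
  obtain ⟨⟨c, hc⟩, ⟨M, hM⟩, hD⟩ := h
  refine ⟨⟨Adj.pull σ (lift (Adj.push σ (fst (Red.bc σ A) (Red.bc σ B))) (Adj.push σ (snd (Red.bc σ A)
    (Red.bc σ B)))) ≫ (Over.pullback σ).map c, ?_⟩, ⟨M, fun y => ?_⟩,
    inferInstanceAs (GeometricallyReduced (pullback.snd D.hom σ))⟩
  · rw [Category.assoc, ← Functor.map_comp, hc, ← Adj.comm_bc]
  · rw [Adj.mem_lenSet_comm_bc, map_apply σ d y]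
    exact hM _

/-- Over a field the commutator lies in every closed subgroup containing the commutators. -/
theorem IsComm.le {k : Type u} [Field k] {G D A B : Over (Spec (CommRingCat.of k))} [GrpObj G] {d : D ⟶ G}
    [IsClosedImmersion d.left] {a : A ⟶ G} {b : B ⟶ G} (h : IsComm d a b) {Γ : Over (Spec (CommRingCat.of k))}
    [GrpObj Γ] (i : Γ ⟶ G) [IsMonHom i] [IsClosedImmersion i.left] (hi : ∃ c, c ≫ i = Adj.comm a b) :
    ∃ j : D ⟶ Γ, j ≫ i = d := by
  obtain ⟨-, ⟨M, hM⟩, hD⟩ := h
  haveI := hD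
  haveI : IsReduced D.left := isReduced_of_geometricallyReduced D
  obtain ⟨l, hl⟩ := H17.exists_lift_of_range_subset d.left i.left (by
    rintro _ ⟨y, rfl⟩
    exact Adj.lenSet_subset_range _ i hi M (hM y))
  refine ⟨Over.homMk l ?_, Over.OverMorphism.ext hl⟩
  rw [← Over.w i, reassoc_of% hl, Over.w d]

set_option maxHeartbeats 1600000 in
/-- The commutator subgroup exists over a nonempty open subscheme. -/
theorem exists_open_comm (S : Scheme.{u}) [IsIntegral S] (G A B : Over S) [GrpObj G] [GrpObj A] [GrpObj B]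
    [LocallyOfFinitePresentation G.hom] [QuasiCompact G.hom] [QuasiSeparated G.hom]
    [LocallyOfFinitePresentation A.hom] [QuasiCompact A.hom] [LocallyOfFinitePresentation B.hom]
    [QuasiCompact B.hom]
    (a : A ⟶ G) [IsMonHom a] [IsImmersion a.left] (b : B ⟶ G) [IsMonHom b] [IsImmersion b.left]
    (hsmA : Smooth (Red.bc (S.fromSpecResidueField (genericPoint S)) A).hom)
    (hsmB : Smooth (Red.bc (S.fromSpecResidueField (genericPoint S)) B).hom)
    (hcase : ConnectedSpace (Red.bc (S.fromSpecResidueField (genericPoint S)) A).left ∨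
      (AlgGrp.IsNormalHom a ∧ AlgGrp.IsNormalHom b)) :
    ∃ U : S.Opens, (U : Set S).Nonempty ∧
      ∃ (D : Over (U : Scheme.{u})) (_ : GrpObj D) (d : D ⟶ Red.bc U.ι G), IsMonHom d ∧ IsClosedImmersion d.left ∧
        LocallyOfFinitePresentation D.hom ∧ QuasiCompact D.hom ∧ QuasiSeparated D.hom ∧ Smooth D.hom ∧
        (ConnectedSpace (Red.bc (S.fromSpecResidueField (genericPoint S)) A).left →
          GeometricallyConnected D.hom) ∧
        (AlgGrp.IsNormalHom a ∧ AlgGrp.IsNormalHom b → AlgGrp.IsNormalHom d) ∧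
        IsComm d ((Over.pullback U.ι).map a) ((Over.pullback U.ι).map b) := by
  let j := S.fromSpecResidueField (genericPoint S)
  haveI : QuasiCompact j := CommSpread.qc_fromSpecResidueField S _
  haveI : Flat j := CommSpread.flat_fromSpecResidueField_genericPoint S
  haveI : IsSchemeTheoreticallyDominant j := CommSpread.std_fromSpecResidueField_genericPoint S
  let F := Over.pullback j
  let GK := Red.bc j G
  let AK := Red.bc j A
  let BK := Red.bc j B
  haveI : LocallyOfFiniteType GK.hom := inferInstanceAs (LocallyOfFiniteType (pullback.snd G.hom j))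
  haveI : LocallyOfFiniteType AK.hom := inferInstanceAs (LocallyOfFiniteType (pullback.snd A.hom j))
  haveI : LocallyOfFiniteType BK.hom := inferInstanceAs (LocallyOfFiniteType (pullback.snd B.hom j))
  haveI : QuasiCompact AK.hom := inferInstanceAs (QuasiCompact (pullback.snd A.hom j))
  haveI : QuasiCompact BK.hom := inferInstanceAs (QuasiCompact (pullback.snd B.hom j))
  haveI : Smooth AK.hom := hsmA
  haveI : Smooth BK.hom := hsmB
  haveI : GeometricallyReduced AK.hom := H19Grp.geometricallyReduced_of_smooth AK.hom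
  haveI : GeometricallyReduced BK.hom := H19Grp.geometricallyReduced_of_smooth BK.hom
  haveI : IsImmersion (F.map a).left := CommSpread.isImmersion_map j a
  haveI : IsImmersion (F.map b).left := CommSpread.isImmersion_map j b
  obtain ⟨N, hN⟩ := CommField.exists_bound (F.map a) (F.map b)
    (hcase.imp id fun h => ⟨Adj.isNormalHom_bc j a h.1, Adj.isNormalHom_bc j b h.2⟩)
  haveI : LocallyOfFiniteType (AK ⊗ BK).hom :=
    inferInstanceAs (LocallyOfFiniteType (pullback.fst AK.hom BK.hom ≫ AK.hom))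
  haveI : QuasiCompact (AK ⊗ BK).hom :=
    inferInstanceAs (QuasiCompact (pullback.fst AK.hom BK.hom ≫ AK.hom))
  haveI : GeometricallyReduced (AK ⊗ BK).hom := geometricallyReduced_tensor
  let CK : PUnit.{u+1} → (AK ⊗ BK ⟶ GK) := single (Adj.comm (F.map a) (F.map b))
  obtain ⟨instΓ, hιΓ⟩ := exists_grpObj_gen CK
  letI := instΓ
  haveI := hιΓ
  obtain ⟨Z, i, _, c, _, hci⟩ := CommSpread.exists_closure j (genι CK)
  haveI : LocallyOfFiniteType Z.hom := by rw [← Over.w i]; infer_instance
  haveI : QuasiCompact Z.hom := by rw [← Over.w i]; infer_instance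
  haveI : QuasiSeparated Z.hom := by rw [← Over.w i]; infer_instance
  obtain ⟨C, hC⟩ := exists_gen_lift CK PUnit.unit
  -- the generic fibre of the extension
  haveI : IsIso c.left := inferInstanceAs (IsIso ((Over.forget _).map c))
  haveI : GeometricallyReduced (Z.hom.fiberToSpecResidueField (genericPoint S)) := by
    have h : GeometricallyReduced (c.left ≫ (Red.bc j Z).hom) := by
      rw [Over.w c]; exact geometricallyReduced_gen CK
    exact (MorphismProperty.cancel_left_of_respectsIso @GeometricallyReduced c.left (Red.bc j Z).hom).mp h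
  -- the open subscheme
  obtain ⟨VA, hA, hA1, -⟩ := CommSpread.exists_flat_lfp A
  obtain ⟨VB, hB, hB1, -⟩ := CommSpread.exists_flat_lfp B
  obtain ⟨VG, hG, hG1, -⟩ := CommSpread.exists_flat_lfp G
  obtain ⟨VZ, hZ, hZ1, hZ2⟩ := CommSpread.exists_flat_lfp Z
  obtain ⟨VR, hRne, hR⟩ := S0434.result Z.hom inferInstance
  have hVR : genericPoint S ∈ VR := ((genericPoint_spec S).mem_open_set_iff VR.2).mpr (by simpa using hRne)
  have hconn : ∃ V : S.Opens, genericPoint S ∈ V ∧
      (ConnectedSpace (Red.bc j A).left → GeometricallyConnected (Z.hom ∣_ V)) := by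
    by_cases h : ConnectedSpace (Red.bc j A).left
    · haveI : ConnectedSpace AK.left := h
      haveI := connectedSpace_gen (F.map a) (F.map b)
      have h1 : GeometricallyConnected (gen CK).hom := geometricallyConnected_grp (gen CK)
      have h2 : GeometricallyConnected (c.left ≫ (Red.bc j Z).hom) := by rw [Over.w c]; exact h1
      obtain ⟨V, hne, hV⟩ := S0420.result Z.hom
        ((MorphismProperty.cancel_left_of_respectsIso @GeometricallyConnected c.left (Red.bc j Z).hom).mp h2)
      exact ⟨V, ((genericPoint_spec S).mem_open_set_iff V.2).mpr (by simpa using hne), fun _ => hV⟩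
    · exact ⟨⊤, trivial, fun h' => absurd h' h⟩
  obtain ⟨VC, hVC, hC'⟩ := hconn
  let E : Set Z.left := i.left ⁻¹' lenSet (Adj.comm a b) (N + N)
  haveI : LocallyOfFinitePresentation (A ⊗ B).hom :=
    inferInstanceAs (LocallyOfFinitePresentation (pullback.fst A.hom B.hom ≫ A.hom))
  haveI : QuasiCompact (A ⊗ B).hom := inferInstanceAs (QuasiCompact (pullback.fst A.hom B.hom ≫ A.hom))
  have hE : Topology.IsLocallyConstructible E :=
    H7Lim.isLocallyConstructible_preimage (CommSpread.isLocallyConstructible_lenSet _ _) i.left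
  have hEgen : ∀ z, Z.hom z = genericPoint S → z ∈ E := fun z hz => by
    have hp : ∀ q, j q = genericPoint S := fun q => (Scheme.range_fromSpecResidueField _).le ⟨q, rfl⟩
    obtain ⟨w, hw, -⟩ := Scheme.Pullback.exists_preimage_pullback (f := Z.hom) (g := j) z
      (IsLocalRing.closedPoint _) (hz.trans (hp _).symm)
    obtain ⟨v, hv⟩ := c.left.surjective w
    have h1 : (genι CK).left v ∈ lenSet (Adj.comm (F.map a) (F.map b)) (N + N) := by
      rw [← closure_wordSet_eq_lenSet _ hN]
      exact (range_genι CK).le ⟨v, rfl⟩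
    have h2 := (Adj.mem_lenSet_comm_bc j a b _ _).mp h1
    show i.left z ∈ lenSet (Adj.comm a b) (N + N)
    have e : pullback.fst G.hom j ((genι CK).left v) = i.left z := by
      rw [← hci, ← hw, ← hv, Over.comp_left]
      simp only [← Scheme.Hom.comp_apply, Category.assoc, (CommSpread.isPullback_map j i).w]
      rfl
    exact e ▸ h2
  haveI : LocallyOfFinitePresentation (Red.bc VZ.ι Z).hom :=
    CommSpread.of_restrict @LocallyOfFinitePresentation Z le_rfl hZ2
  haveI : QuasiCompact (Red.bc VZ.ι Z).hom := inferInstanceAs (QuasiCompact (pullback.snd Z.hom VZ.ι))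
  obtain ⟨VE, hVE, hcover⟩ := CommSpread.exists_open_subset Z hZ hE hEgen
  let U : S.Opens := VA ⊓ VB ⊓ VG ⊓ VZ ⊓ VR ⊓ VC ⊓ VE
  have hU : genericPoint S ∈ U := ⟨⟨⟨⟨⟨⟨hA, hB⟩, hG⟩, hZ⟩, hVR⟩, hVC⟩, hVE⟩
  have hUA : U ≤ VA := fun _ h => h.1.1.1.1.1.1
  have hUB : U ≤ VB := fun _ h => h.1.1.1.1.1.2
  have hUG : U ≤ VG := fun _ h => h.1.1.1.1.2
  have hUZ : U ≤ VZ := fun _ h => h.1.1.1.2
  have hUR : U ≤ VR := fun _ h => h.1.1.2
  have hUC : U ≤ VC := fun _ h => h.1.2
  have hUE : U ≤ VE := fun _ h => h.2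
  refine ⟨U, ⟨_, hU⟩, ?_⟩
  let FU := Over.pullback U.ι
  let AU := Red.bc U.ι A
  let BU := Red.bc U.ι B
  let GU := Red.bc U.ι G
  let D := Red.bc U.ι Z
  let d : D ⟶ GU := FU.map i
  haveI : IsClosedImmersion d.left := CommSpread.isClosedImmersion_map U.ι i
  haveI : Mono d := Over.mono_of_mono_left _
  haveI : Flat AU.hom := CommSpread.of_restrict @Flat A hUA hA1
  haveI : Flat BU.hom := CommSpread.of_restrict @Flat B hUB hB1
  haveI : Flat GU.hom := CommSpread.of_restrict @Flat G hUG hG1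
  haveI : Flat D.hom := CommSpread.of_restrict @Flat Z hUZ hZ1
  haveI : LocallyOfFinitePresentation D.hom := CommSpread.of_restrict @LocallyOfFinitePresentation Z hUZ hZ2
  haveI : GeometricallyReduced D.hom := CommSpread.of_restrict @GeometricallyReduced Z hUR hR
  -- testing membership on the generic fibre
  let φ : ∀ T : Over (U : Scheme.{u}), (T ⟶ GU) →* (Red.bc j ((Over.map U.ι).obj T) ⟶ GK) := fun T =>
    (MonoidHom.mk' (fun g => F.map g) fun g h => Functor.map_mul _ _ _).comp (Adj.equiv U.ι G T).toMonoidHom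
  have hφd : ∀ (T : Over (U : Scheme.{u})) (x : T ⟶ D), φ T (x ≫ d) ∈ Adj.subPts (genι CK) _ := fun T x => by
    refine ⟨F.map (Adj.push U.ι x) ≫ inv c, ?_⟩
    show (F.map (Adj.push U.ι x) ≫ inv c) ≫ genι CK = F.map (Adj.push U.ι (x ≫ FU.map i))
    rw [Adj.push_comp_map, F.map_comp, Category.assoc, ← hci, IsIso.inv_hom_id_assoc]
  have hfac : ∀ (T : Over (U : Scheme.{u})) [Flat T.hom] (f : T ⟶ GU),
      φ T f ∈ Adj.subPts (genι CK) _ → ∃ g, g ≫ d = f := fun T _ f hf => by
    obtain ⟨x, hx⟩ := hf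
    haveI : Flat ((Over.map U.ι).obj T).hom := inferInstanceAs (Flat (T.hom ≫ U.ι))
    obtain ⟨g, hg⟩ := CommSpread.factor_generic j i (Adj.push U.ι f)
      ⟨x ≫ c, by rw [Category.assoc, hci]; exact hx⟩
    exact ⟨Adj.pull U.ι g, by rw [← Adj.pull_comp, hg, Adj.pull_push]⟩
  haveI : Flat (D ⊗ D).hom := inferInstanceAs (Flat (pullback.fst D.hom D.hom ≫ D.hom))
  haveI : Flat (AU ⊗ BU).hom := inferInstanceAs (Flat (pullback.fst AU.hom BU.hom ≫ AU.hom))
  haveI : Flat (D ⊗ GU).hom := inferInstanceAs (Flat (pullback.fst D.hom GU.hom ≫ D.hom))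
  haveI : Flat (𝟙_ (Over (U : Scheme.{u}))).hom := inferInstanceAs (Flat (𝟙 (U : Scheme.{u})))
  obtain ⟨e₀, he₀⟩ := hfac (𝟙_ _) 1 (by rw [map_one]; exact one_mem _)
  obtain ⟨i₀, hi₀⟩ := hfac D d⁻¹ (by
    rw [map_inv]
    exact inv_mem (by simpa using hφd D (𝟙 D)))
  obtain ⟨m₀, hm₀⟩ := hfac (D ⊗ D) ((fst D D ≫ d) * (snd D D ≫ d)) (by
    rw [map_mul]; exact mul_mem (hφd _ _) (hφd _ _))
  obtain ⟨cU, hcU⟩ := hfac (AU ⊗ BU) (Adj.comm (FU.map a) (FU.map b)) (by
    let q := lift (Adj.push U.ι (fst AU BU)) (Adj.push U.ι (snd AU BU))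
    refine ⟨(F.map q ≫ lift (F.map (fst A B)) (F.map (snd A B))) ≫ C, ?_⟩
    show _ = F.map (Adj.push U.ι (Adj.comm (FU.map a) (FU.map b)))
    rw [Adj.comm_bc, Adj.push_comp_map, Adj.push_pull, F.map_comp, Adj.map_comm]
    simp only [Category.assoc, hC]
    rfl)
  obtain ⟨instD, hd⟩ := H21Cent.exists_grpObj_of_mono d ⟨e₀, he₀⟩ ⟨m₀, hm₀⟩ ⟨i₀, hi₀⟩
  letI := instD
  haveI := hd
  refine ⟨D, instD, d, hd, inferInstance, inferInstance, inferInstanceAs (QuasiCompact (pullback.snd Z.hom U.ι)),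
    inferInstanceAs (QuasiSeparated (pullback.snd Z.hom U.ι)), ?_, ?_, ?_, ?_⟩
  · exact H19Grp.smooth_of_flat_of_geometricallyReduced D
  · intro h
    exact CommSpread.of_restrict @GeometricallyConnected Z hUC (hC' h)
  · rintro ⟨ha, hb⟩ T g n
    have hn := isNormalHom_gen (F.map a) (F.map b) (Adj.isNormalHom_bc j a ha) (Adj.isNormalHom_bc j b hb)
    obtain ⟨conjU, hconjU⟩ := hfac (D ⊗ GU) (snd D GU * (fst D GU ≫ d) * (snd D GU)⁻¹) (by
      obtain ⟨x, hx⟩ := hφd (D ⊗ GU) (fst D GU)
      obtain ⟨x', hx'⟩ := hn _ (φ _ (snd D GU)) x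
      have hx : x ≫ genι CK = φ _ (fst D GU ≫ d) := hx
      refine ⟨x', ?_⟩
      show x' ≫ genι CK = _
      rw [map_mul, map_mul, map_inv, ← hx]
      exact hx'.symm)
    refine ⟨lift n g ≫ conjU, ?_⟩
    rw [Category.assoc, hconjU, MonObj.comp_mul, MonObj.comp_mul, GrpObj.comp_inv, lift_snd, lift_fst_assoc]
  refine ⟨⟨cU, hcU⟩, ⟨N + N, fun y => ?_⟩, inferInstance⟩
  rw [Adj.mem_lenSet_comm_bc, show pullback.fst G.hom U.ι (d.left y) = i.left (pullback.fst Z.hom U.ι y) from
    map_apply U.ι i y]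
  refine hcover _ (hUE ?_)
  rw [← Scheme.Hom.comp_apply, pullback.condition, Scheme.Hom.comp_apply]
  exact (pullback.snd Z.hom U.ι y).2

end Groth.Agent.H06GenSub.CommMain
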