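import Mathlib
import Groth.Agent.H06GenSub.CommMain

/-!
Iterated commutator subgroups over open subschemes of an integral base.
-/

set_option autoImplicit false
set_option linter.style.haveILetI false
set_option linter.unusedSectionVars false
set_option backward.isDefEq.respectTransparency false
set_option synthInstance.maxHeartbeats 100000

universe u

open CategoryTheory CategoryTheory.Limits MonoidalCategory CartesianMonoidalCategory MonObj GrpObj
  AlgebraicGeometry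
open scoped commutatorElement CategoryTheory.Obj

namespace Groth.Agent.H06GenSub.Derived

open Groth.Agent.H06GenSub.CommMain

/-- The n-th derived subgroup, in a form stable under base change. -/
def IsDerived {S : Scheme.{u}} {G : Over S} [GrpObj G] : ℕ → (D : Over S) → (D ⟶ G) → Prop
  | 0, _, d => IsIso d
  | n + 1, _, d => ∃ (D' : Over S) (_ : GrpObj D') (d' : D' ⟶ G),
      IsMonHom d' ∧ IsClosedImmersion d'.left ∧ IsDerived n D' d' ∧ IsComm d d' d'

theorem IsDerived.bc {S S' : Scheme.{u}} (σ : S' ⟶ S) {G : Over S} [GrpObj G] :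
    ∀ (n : ℕ) {D : Over S} {d : D ⟶ G}, IsDerived n D d →
      IsDerived n (Red.bc σ D) ((Over.pullback σ).map d)
  | 0, _, d, h => by
    haveI : IsIso d := h
    exact inferInstanceAs (IsIso ((Over.pullback σ).map d))
  | n + 1, _, d, h => by
    obtain ⟨D', _, d', _, _, h1, h2⟩ := h
    exact ⟨Red.bc σ D', inferInstance, (Over.pullback σ).map d', inferInstance,
      CommSpread.isClosedImmersion_map σ d', IsDerived.bc σ n h1, h2.bc σ⟩

theorem comm_comp {S : Scheme.{u}} {G G' A B : Over S} [GrpObj G] [GrpObj G'] (a : A ⟶ G) (b : B ⟶ G)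
    (e : G ⟶ G') [IsMonHom e] : Adj.comm (a ≫ e) (b ≫ e) = Adj.comm a b ≫ e := by
  simp only [Adj.comm, commutatorElement_def, MonObj.mul_comp, GrpObj.inv_comp, Category.assoc]

theorem isComm_comp {S : Scheme.{u}} {G G' D A B : Over S} [GrpObj G] [GrpObj G'] {d : D ⟶ G} {a : A ⟶ G}
    {b : B ⟶ G} (h : IsComm d a b) (e : G ⟶ G') [IsMonHom e] : IsComm (d ≫ e) (a ≫ e) (b ≫ e) := by
  obtain ⟨⟨c, hc⟩, ⟨M, hM⟩, hD⟩ := h
  refine ⟨⟨c, by rw [comm_comp, ← hc, Category.assoc]⟩, ⟨M, fun y => ?_⟩, hD⟩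
  obtain ⟨T, t, L, hL, he⟩ := hM y
  refine ⟨T, t, L, hL, ?_⟩
  rw [comm_comp, Over.comp_left, Scheme.Hom.comp_apply, ← he, ← Scheme.Hom.comp_apply, ← Over.comp_left]
  have e1 := Adj.lprod_map (Adj.comm a b) (Adj.comm a b ≫ e)
    (MonoidHom.mk' (fun g : T ⟶ G => g ≫ e) fun _ _ => MonObj.mul_comp _ _ _) id (fun x => show (x ≫ Adj.comm a b) ≫ e = x ≫ Adj.comm a b ≫ e from Category.assoc _ _ _) L
  simp only [id_eq, Prod.mk.eta, List.map_id'] at e1
  rw [← e1]
  rfl

theorem IsDerived.comp {S : Scheme.{u}} {G G' : Over S} [GrpObj G] [GrpObj G'] (e : G ⟶ G') [IsMonHom e] [IsIso e] :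
    ∀ (n : ℕ) {D : Over S} {d : D ⟶ G}, IsDerived n D d → IsDerived n D (d ≫ e)
  | 0, _, d, h => by
    haveI : IsIso d := h
    exact inferInstanceAs (IsIso (d ≫ e))
  | n + 1, _, d, h => by
    obtain ⟨D', _, d', _, _, h1, h2⟩ := h
    haveI : IsIso e.left := inferInstanceAs (IsIso ((Over.forget S).map e))
    exact ⟨D', inferInstance, d' ≫ e, inferInstance, by rw [Over.comp_left]; infer_instance,
      IsDerived.comp e n h1, isComm_comp h2 e⟩

theorem isNormalHom_comp {S : Scheme.{u}} {G G' D : Over S} [GrpObj G] [GrpObj G'] [GrpObj D] (d : D ⟶ G)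
    (h : AlgGrp.IsNormalHom d) (e : G ⟶ G') [IsMonHom e] [IsIso e] : AlgGrp.IsNormalHom (d ≫ e) := by
  intro T g n
  obtain ⟨n', hn'⟩ := h T (g ≫ inv e) n
  refine ⟨n', ?_⟩
  have h1 := congrArg (· ≫ e) hn'
  simpa [MonObj.mul_comp, GrpObj.inv_comp] using h1

/-- Transitivity of base change, as an isomorphism of groups. -/
theorem exists_compIso {S S' S'' : Scheme.{u}} (θ : S'' ⟶ S') (τ : S' ⟶ S) (σ : S'' ⟶ S) (hσ : θ ≫ τ = σ)
    (G : Over S) [GrpObj G] :
    ∃ e : Red.bc θ (Red.bc τ G) ⟶ Red.bc σ G, IsMonHom e ∧ IsIso e := by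
  subst hσ
  let cast : ∀ T : Over S'', (Over.map (θ ≫ τ)).obj T ⟶ (Over.map τ).obj ((Over.map θ).obj T) := fun T =>
    Over.homMk (𝟙 _) (by show 𝟙 _ ≫ (T.hom ≫ θ) ≫ τ = T.hom ≫ θ ≫ τ; simp)
  let cast' : ∀ T : Over S'', (Over.map τ).obj ((Over.map θ).obj T) ⟶ (Over.map (θ ≫ τ)).obj T := fun T =>
    Over.homMk (𝟙 _) (by show 𝟙 _ ≫ T.hom ≫ θ ≫ τ = (T.hom ≫ θ) ≫ τ; simp)
  let e : Red.bc θ (Red.bc τ G) ⟶ Red.bc (θ ≫ τ) G :=
    Adj.pull (θ ≫ τ) (cast _ ≫ Adj.push τ (Adj.push θ (𝟙 (Red.bc θ (Red.bc τ G)))))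
  let e' : Red.bc (θ ≫ τ) G ⟶ Red.bc θ (Red.bc τ G) :=
    Adj.pull θ (Adj.pull τ (cast' _ ≫ Adj.push (θ ≫ τ) (𝟙 (Red.bc (θ ≫ τ) G))))
  have hx : ∀ (T : Over S'') (x : T ⟶ Red.bc θ (Red.bc τ G)),
      Adj.push (θ ≫ τ) (x ≫ e) = cast T ≫ Adj.push τ (Adj.push θ x) := fun T x => by
    rw [Adj.push_comp, Adj.push_pull]
    apply Over.OverMorphism.ext
    simp [cast, Adj.push]
  have hx' : ∀ (T : Over S'') (x : T ⟶ Red.bc (θ ≫ τ) G),
      Adj.push τ (Adj.push θ (x ≫ e')) = cast' T ≫ Adj.push (θ ≫ τ) x := fun T x => by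
    rw [Adj.push_comp θ x, Adj.push_pull, Adj.push_comp τ, Adj.push_pull]
    apply Over.OverMorphism.ext
    simp [cast', Adj.push]
  have hm : ∀ (T : Over S'') (x y : T ⟶ Red.bc θ (Red.bc τ G)), (x * y) ≫ e = (x ≫ e) * (y ≫ e) := fun T x y => by
    refine (Adj.equiv (θ ≫ τ) G T).injective ?_
    rw [map_mul, Adj.equiv_apply, Adj.equiv_apply, Adj.equiv_apply, hx, hx, hx, ← Adj.equiv_apply θ,
      ← Adj.equiv_apply θ, ← Adj.equiv_apply θ, map_mul, ← Adj.equiv_apply τ, ← Adj.equiv_apply τ,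
      ← Adj.equiv_apply τ, map_mul, MonObj.comp_mul]
  refine ⟨e, ⟨?_, ?_⟩, ⟨e', ?_, ?_⟩⟩
  · have h := hm _ (1 : 𝟙_ _ ⟶ Red.bc θ (Red.bc τ G)) 1
    rw [_root_.mul_one, eq_comm, mul_eq_left] at h
    simpa [MonObj.one_eq_one] using h
  · have h := hm _ (fst (Red.bc θ (Red.bc τ G)) (Red.bc θ (Red.bc τ G))) (snd _ _)
    rw [MonObj.mul_eq_mul, h, MonObj.mul_eq_mul, MonObj.comp_mul]
    simp
  · refine (Adj.equiv θ (Red.bc τ G) _).injective ((Adj.equiv τ G _).injective ?_)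
    simp only [Adj.equiv_apply]
    rw [hx' _ e, show Adj.push (θ ≫ τ) e = cast _ ≫ Adj.push τ (Adj.push θ (𝟙 (Red.bc θ (Red.bc τ G)))) from
      Adj.push_pull _ _]
    apply Over.OverMorphism.ext
    simp [cast, cast']
  · refine (Adj.equiv (θ ≫ τ) G _).injective ?_
    simp only [Adj.equiv_apply]
    rw [hx _ e', show Adj.push τ (Adj.push θ e') = cast' _ ≫ Adj.push (θ ≫ τ) (𝟙 (Red.bc (θ ≫ τ) G)) from by
      simp only [e', Adj.push_pull]]
    apply Over.OverMorphism.ext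
    simp [cast, cast']

/-- Iterated commutator subgroups exist over nonempty open subschemes. -/
theorem exists_open_derived (S : Scheme.{u}) [IsIntegral S] (G : Over S) [GrpObj G]
    [LocallyOfFinitePresentation G.hom] [QuasiCompact G.hom] [QuasiSeparated G.hom]
    (hsm : Smooth (Red.bc (S.fromSpecResidueField (genericPoint S)) G).hom) :
    ∀ n : ℕ, ∃ U : S.Opens, (U : Set S).Nonempty ∧
      ∃ (D : Over (U : Scheme.{u})) (_ : GrpObj D) (d : D ⟶ Red.bc U.ι G), IsMonHom d ∧ IsClosedImmersion d.left ∧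
        LocallyOfFinitePresentation D.hom ∧ QuasiCompact D.hom ∧ QuasiSeparated D.hom ∧ Smooth D.hom ∧
        AlgGrp.IsNormalHom d ∧ IsDerived (n + 1) D d
  | 0 => by
    haveI : IsImmersion (𝟙 G : G ⟶ G).left := inferInstanceAs (IsImmersion (𝟙 G.left))
    have hn : AlgGrp.IsNormalHom (𝟙 G : G ⟶ G) := fun T g n => ⟨g * n * g⁻¹, by simp⟩
    obtain ⟨U, hU, D, _, d, h1, h2, h3, h4, h5, h6, -, h7, hC⟩ :=
      exists_open_comm S G G G (𝟙 G) (𝟙 G) hsm hsm (Or.inr ⟨hn, hn⟩)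
    haveI : IsClosedImmersion ((Over.pullback U.ι).map (𝟙 G)).left := by
      haveI : IsClosedImmersion (𝟙 G : G ⟶ G).left := inferInstanceAs (IsClosedImmersion (𝟙 G.left))
      exact CommSpread.isClosedImmersion_map _ _
    refine ⟨U, hU, D, inferInstance, d, h1, h2, h3, h4, h5, h6, h7 ⟨hn, hn⟩, ?_⟩
    exact ⟨Red.bc U.ι G, inferInstance, (Over.pullback U.ι).map (𝟙 G), inferInstance, inferInstance,
      inferInstanceAs (IsIso ((Over.pullback U.ι).map (𝟙 G))), hC⟩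
  | n + 1 => by
    obtain ⟨U, hU, D₀, _, d₀, _, _, _, _, _, _, hn₀, hD₀⟩ := exists_open_derived S G hsm n
    haveI : Nonempty (U : Scheme.{u}) := hU.to_subtype
    haveI : IsIntegral (U : Scheme.{u}) := isIntegral_of_isOpenImmersion U.ι
    haveI : LocallyOfFinitePresentation (Red.bc U.ι G).hom :=
      inferInstanceAs (LocallyOfFinitePresentation (pullback.snd G.hom U.ι))
    haveI : QuasiCompact (Red.bc U.ι G).hom := inferInstanceAs (QuasiCompact (pullback.snd G.hom U.ι))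
    haveI : QuasiSeparated (Red.bc U.ι G).hom := inferInstanceAs (QuasiSeparated (pullback.snd G.hom U.ι))
    have hs : Smooth (Red.bc ((U : Scheme.{u}).fromSpecResidueField (genericPoint (U : Scheme.{u}))) D₀).hom :=
      MorphismProperty.pullback_snd (P := @Smooth) _ _ inferInstance
    haveI : IsImmersion d₀.left := inferInstance
    obtain ⟨V, hV, D, _, d, _, _, _, _, _, _, -, hnorm, hC⟩ :=
      exists_open_comm (U : Scheme.{u}) (Red.bc U.ι G) D₀ D₀ d₀ d₀ hs hs (Or.inr ⟨hn₀, hn₀⟩)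
    let W : S.Opens := U.ι ''ᵁ V
    let θ : (W : Scheme.{u}) ⟶ (V : Scheme.{u}) := IsOpenImmersion.lift (V.ι ≫ U.ι) W.ι (by
      rw [Scheme.Hom.comp_base, TopCat.coe_comp, Set.range_comp, Scheme.Opens.range_ι, Scheme.Opens.range_ι]
      exact subset_rfl)
    obtain ⟨e₁, _, _⟩ := exists_compIso θ V.ι (θ ≫ V.ι) rfl (Red.bc U.ι G)
    obtain ⟨e₂, _, _⟩ := exists_compIso (θ ≫ V.ι) U.ι W.ι
      ((Category.assoc _ _ _).trans (IsOpenImmersion.lift_fac _ _ _)) G
    let e : Red.bc θ (Red.bc V.ι (Red.bc U.ι G)) ⟶ Red.bc W.ι G := e₁ ≫ e₂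
    haveI : IsIso e := inferInstanceAs (IsIso (e₁ ≫ e₂))
    haveI : IsMonHom e := inferInstanceAs (IsMonHom (e₁ ≫ e₂))
    let F := Over.pullback θ
    haveI : IsClosedImmersion ((Over.pullback V.ι).map d₀).left := CommSpread.isClosedImmersion_map _ _
    haveI : IsClosedImmersion (F.map d).left := CommSpread.isClosedImmersion_map _ _
    haveI : IsClosedImmersion (F.map ((Over.pullback V.ι).map d₀)).left := CommSpread.isClosedImmersion_map _ _
    haveI : IsIso e.left := inferInstanceAs (IsIso ((Over.forget _).map e))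
    refine ⟨W, hV.image _, Red.bc θ D, inferInstance, F.map d ≫ e, inferInstance,
      by rw [Over.comp_left]; infer_instance, inferInstanceAs (LocallyOfFinitePresentation (pullback.snd D.hom θ)),
      inferInstanceAs (QuasiCompact (pullback.snd D.hom θ)), inferInstanceAs (QuasiSeparated (pullback.snd D.hom θ)),
      inferInstanceAs (Smooth (pullback.snd D.hom θ)),
      isNormalHom_comp _ (Adj.isNormalHom_bc θ d (hnorm ⟨hn₀, hn₀⟩)) e, ?_⟩
    exact ⟨Red.bc θ (Red.bc V.ι D₀), inferInstance, F.map ((Over.pullback V.ι).map d₀) ≫ e, inferInstance,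
      by rw [Over.comp_left]; infer_instance, ((hD₀.bc V.ι).bc θ).comp e, isComm_comp (hC.bc θ) e⟩

/-- A subgroup object. -/
structure Sub {S : Scheme.{u}} (G : Over S) where
  obj : Over S
  grp : GrpObj obj
  emb : obj ⟶ G

attribute [instance] Sub.grp

/-- The chain of derived subgroups over a field. -/
theorem exists_chain {k : Type u} [Field k] {G : Over (Spec (CommRingCat.of k))} [GrpObj G] :
    ∀ (n : ℕ) (D : Over (Spec (CommRingCat.of k))) (instD : GrpObj D) (d : D ⟶ G), IsMonHom d →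
      IsClosedImmersion d.left → IsDerived n D d →
      ∃ f : ℕ → Sub G, f n = ⟨D, instD, d⟩ ∧ IsIso (f 0).emb ∧
        (∀ p, p ≤ n → IsMonHom (f p).emb ∧ IsClosedImmersion (f p).emb.left) ∧
        ∀ p, p < n → (∃ c, c ≫ (f (p + 1)).emb = Adj.comm (f p).emb (f p).emb) ∧
          ∀ (Γ : Over (Spec (CommRingCat.of k))) (_ : GrpObj Γ) (i : Γ ⟶ G), IsMonHom i → IsClosedImmersion i.left →
            (∃ c, c ≫ i = Adj.comm (f p).emb (f p).emb) → ∃ j, j ≫ i = (f (p + 1)).emb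
  | 0, D, instD, d, hm, hc, h => ⟨fun _ => ⟨D, instD, d⟩, rfl, h, fun _ _ => ⟨hm, hc⟩,
      fun p hp => absurd hp (Nat.not_lt_zero p)⟩
  | n + 1, D, instD, d, hm, hc, h => by
    obtain ⟨D', inst', d', hm', hc', h1, h2⟩ := h
    obtain ⟨f, hf, hf0, hfs, hfc⟩ := exists_chain n D' inst' d' hm' hc' h1
    let g : ℕ → Sub G := fun p => if p ≤ n then f p else ⟨D, instD, d⟩
    let Good : Sub G → Prop := fun x => IsMonHom x.emb ∧ IsClosedImmersion x.emb.left
    let Step : Sub G → Sub G → Prop := fun x y => (∃ c, c ≫ y.emb = Adj.comm x.emb x.emb) ∧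
      ∀ (Γ : Over (Spec (CommRingCat.of k))) (_ : GrpObj Γ) (i : Γ ⟶ G), IsMonHom i → IsClosedImmersion i.left →
        (∃ c, c ≫ i = Adj.comm x.emb x.emb) → ∃ j, j ≫ i = y.emb
    have hg : ∀ p, p ≤ n → g p = f p := fun p hp => if_pos hp
    have hg' : g (n + 1) = ⟨D, instD, d⟩ := if_neg (Nat.not_succ_le_self n)
    refine ⟨g, hg', ?_, fun p hp => ?_, fun p hp => ?_⟩
    · show (fun x : Sub G => IsIso x.emb) (g 0)
      rw [hg 0 (Nat.zero_le n)]
      exact hf0
    · show Good (g p)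
      rcases Nat.lt_or_ge n p with h | h
      · rw [le_antisymm hp h, hg']
        exact ⟨hm, hc⟩
      · rw [hg p h]
        exact hfs p h
    · show Step (g p) (g (p + 1))
      rw [hg p (Nat.lt_succ_iff.mp hp)]
      rcases Nat.lt_or_ge p n with h | h
      · rw [hg (p + 1) (Nat.succ_le_of_lt h)]
        exact hfc p h
      · rw [le_antisymm (Nat.lt_succ_iff.mp hp) h, hg', hf]
        haveI := hc
        exact ⟨h2.1, fun Γ _ i _ _ hi => h2.le i hi⟩

end Groth.Agent.H06GenSub.Derived
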